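import Groth.Prelude.Def_HTop2
import Groth.Agent.Lib.UnivHomeo.Good
import Groth.Agent.Lib.UnivHomeo.Approx
import Mathlib.RingTheory.Localization.Away.Basic
import Mathlib.RingTheory.Nilpotent.Lemmas
import Mathlib.RingTheory.LocalProperties.Reduced
import Mathlib.RingTheory.IntegralClosure.IntegrallyClosed

/-! # Seminormal and absolutely weakly normal rings -/

universe u

open CategoryTheory AlgebraicGeometry
open scoped TensorProduct

namespace Groth.Agent.SN26

variable {A B W : Type u} [CommRing A] [CommRing B] [CommRing W]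

/-- Seminormal, and absolutely weakly normal unless `r` holds. -/
def Normal (r : Prop) (A : Type u) [CommRing A] : Prop :=
  HTop.IsSeminormalRing A ∧ (¬ r → HTop.IsAWNRing A)

theorem normal_true_iff : Normal True A ↔ HTop.IsSeminormalRing A :=
  ⟨fun h => h.1, fun h => ⟨h, fun h' => absurd trivial h'⟩⟩

theorem normal_false_iff : Normal False A ↔ HTop.IsAWNRing A :=
  ⟨fun h => h.2 id, fun h => ⟨h.1, fun _ => h⟩⟩

theorem isReduced_of_sn (h : HTop.IsSeminormalRing A) : IsReduced A := by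
  rw [isReduced_iff_pow_one_lt 2 one_lt_two]
  intro x hx
  obtain ⟨a, -, huniq⟩ := h 0 0 (by ring)
  have h0 := huniq x ⟨hx.symm, by rw [pow_succ, hx, zero_mul]⟩
  exact h0.trans (huniq 0 ⟨by ring, by ring⟩).symm

theorem ext_sq_cube [IsReduced A] {a b : A} (h2 : a ^ 2 = b ^ 2) (h3 : a ^ 3 = b ^ 3) : a = b := by
  refine sub_eq_zero.1 (IsNilpotent.eq_zero ⟨3, ?_⟩)
  linear_combination 4 * h3 - (3 * a + 3 * b) * h2

theorem ext_pow_prime [IsReduced A] {p : ℕ} (hp : p.Prime) {a b : A} (h1 : a ^ p = b ^ p)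
    (h2 : (p : A) * a = p * b) : a = b := by
  refine sub_eq_zero.1 (IsNilpotent.eq_zero (nilpotent_iff_mem_prime.2 fun P hP => ?_))
  haveI := hP
  rw [← Ideal.Quotient.eq_zero_iff_mem, map_sub, sub_eq_zero]
  by_cases hpP : ((p : ℕ) : A ⧸ P) = 0
  · haveI : CharP (A ⧸ P) p := ringChar.of_eq (CharP.ringChar_of_prime_eq_zero hp hpP)
    haveI : ExpChar (A ⧸ P) p := ExpChar.prime hp
    refine iterateFrobenius_inj (A ⧸ P) p 1 ?_
    simp only [iterateFrobenius_def, pow_one, ← map_pow, h1]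
  · refine mul_left_cancel₀ hpP ?_
    rw [← map_natCast (Ideal.Quotient.mk P), ← map_mul, ← map_mul, h2]

theorem bijective_of_good {r : Prop} (hA : Normal r A) [IsReduced B] {φ : A →+* B} (h : UH.Good r φ) :
    Function.Bijective φ := by
  haveI := isReduced_of_sn hA.1
  have hinj : Function.Injective φ := (injective_iff_map_eq_zero φ).2 fun a ha => by
    refine IsNilpotent.eq_zero (nilpotent_iff_mem_prime.2 fun p hp => ?_)
    obtain ⟨q, -, rfl⟩ := h.over p hp
    show φ a ∈ q
    rw [ha]; exact zero_mem _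
  refine ⟨hinj, ?_⟩
  by_contra hns
  letI := φ.toAlgebra
  haveI : Algebra.IsIntegral A B := ⟨h.integral⟩
  have sq : ∀ b : B, b ^ 2 ∈ φ.range → b ^ 3 ∈ φ.range → b ∈ φ.range := by
    rintro b ⟨x, hx⟩ ⟨y, hy⟩
    obtain ⟨a, ⟨ha, ha'⟩, -⟩ := hA.1 x y (hinj (by rw [map_pow, map_pow, hx, hy]; ring))
    exact ⟨a, ext_sq_cube (by rw [← map_pow, ← ha, hx]) (by rw [← map_pow, ← ha', hy])⟩
  by_cases hr : r
  · obtain ⟨b, hb, h2, h3⟩ := UH.exists_sq_cube (A := A) (B := B) hinj hns h.inj2 (h.res hr)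
    exact hb (sq b h2 h3)
  · rcases UH.exists_sq_cube_or_prime (A := A) (B := B) hinj hns h.inj2
      (UH.rad_inj2_of_universallyInjective φ (UH.universallyInjective_of_field φ h.field)).2 with
      ⟨b, hb, h2, h3⟩ | ⟨p, b, hp, hb, ⟨y, hy⟩, ⟨x, hx⟩⟩
    · exact hb (sq b h2 h3)
    · obtain ⟨a, ⟨ha, ha'⟩, -⟩ := (hA.2 hr).2 p hp x y (hinj (by
        rw [map_mul, map_pow, map_pow, map_natCast, show φ x = b ^ p from hx, show φ y = (p : B) * b from hy,
          mul_pow]))
      exact hb ⟨a, ext_pow_prime hp (by rw [← map_pow, ← ha]; exact hx)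
        ((congrArg φ ha').symm.trans hy |> fun e => by rwa [map_mul, map_natCast] at e)⟩

theorem good_comp_red {r : Prop} {C : Type u} [CommRing C] {ψ : A →+* C} (h : UH.Good r ψ) :
    UH.Good r ((Ideal.Quotient.mk (nilradical C)).comp ψ) :=
  UH.good_comp h (UH.good_of_surjective r Ideal.Quotient.mk_surjective fun a ha => by
    rw [Ideal.mk_ker] at ha; exact ha)

theorem normal_of_bijective {r : Prop} [IsReduced A]
    (h : ∀ (B : Type u) [CommRing B] [IsReduced B] (φ : A →+* B), UH.Good r φ → Function.Bijective φ) :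
    Normal r A := by
  have sn : HTop.IsSeminormalRing A := by
    intro x y hxy
    let Q := Polynomial A ⧸ Ideal.span
      ({Polynomial.X ^ 2 - Polynomial.C x, Polynomial.X ^ 3 - Polynomial.C y} : Set (Polynomial A))
    haveI : IsReduced (Q ⧸ nilradical Q) :=
      (Ideal.isRadical_iff_quotient_reduced _).1 (Ideal.radical_isRadical (0 : Ideal Q))
    obtain ⟨hi, hs⟩ := h (Q ⧸ nilradical Q) _ (good_comp_red (UH.good_sq_cube (r := r) x y hxy))
    obtain ⟨a, ha⟩ := hs (Ideal.Quotient.mk _ (Ideal.Quotient.mk _ Polynomial.X))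
    refine ⟨a, ⟨?_, ?_⟩, fun b hb => ext_sq_cube (hb.1.symm.trans ?_) (hb.2.symm.trans ?_)⟩
    all_goals
      first
        | (refine hi ?_
           rw [map_pow, ha, ← map_pow, ← map_pow]
           refine congrArg (Ideal.Quotient.mk _) (Ideal.Quotient.eq.2 ?_)
           rw [← neg_mem_iff, neg_sub]
           exact Ideal.subset_span (by first | exact Or.inl rfl | exact Or.inr rfl))
  refine ⟨sn, fun hr => ⟨sn, fun p hp x y hxy => ?_⟩⟩
  let Q := Polynomial A ⧸ Ideal.span
    ({Polynomial.X ^ p - Polynomial.C x, Polynomial.C (p : A) * Polynomial.X - Polynomial.C y} : Set (Polynomial A))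
  haveI : IsReduced (Q ⧸ nilradical Q) :=
    (Ideal.isRadical_iff_quotient_reduced _).1 (Ideal.radical_isRadical (0 : Ideal Q))
  obtain ⟨hi, hs⟩ := h (Q ⧸ nilradical Q) _ (good_comp_red (UH.good_pth_root (r := r) hr p hp x y hxy))
  obtain ⟨a, ha⟩ := hs (Ideal.Quotient.mk _ (Ideal.Quotient.mk _ Polynomial.X))
  have e1 : x = a ^ p := hi (by
    rw [map_pow, ha, ← map_pow, ← map_pow]
    refine congrArg (Ideal.Quotient.mk _) (Ideal.Quotient.eq.2 ?_)
    rw [← neg_mem_iff, neg_sub]
    exact Ideal.subset_span (Or.inl rfl))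
  have e2 : y = (p : A) * a := hi (by
    rw [map_mul, ha]
    refine Eq.trans ?_ (map_mul (Ideal.Quotient.mk (nilradical Q)) (algebraMap A Q (p : A)) _)
    refine congrArg (Ideal.Quotient.mk _) (Ideal.Quotient.eq.2 ?_)
    rw [← neg_mem_iff, neg_sub]
    exact Ideal.subset_span (Or.inr rfl))
  exact ⟨a, ⟨e1, e2⟩, fun b hb => ext_pow_prime hp (hb.1.symm.trans e1) (hb.2.symm.trans e2)⟩

theorem normal_iff {r : Prop} : Normal r A ↔ IsReduced A ∧
    ∀ (B : Type u) [CommRing B] [IsReduced B] (φ : A →+* B), UH.Good r φ → Function.Bijective φ :=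
  ⟨fun h => ⟨isReduced_of_sn h.1, fun _ _ _ _ hφ => bijective_of_good h hφ⟩,
    fun h => @normal_of_bijective _ _ _ h.1 h.2⟩

theorem eq_of_good [IsReduced W] {C : Type u} [CommRing C] {r : Prop} {ψ : A →+* C} (hψ : UH.Good r ψ)
    (χ₁ χ₂ : C →+* W) (h : χ₁.comp ψ = χ₂.comp ψ) : χ₁ = χ₂ := by
  refine RingHom.ext fun c => sub_eq_zero.1 (IsNilpotent.eq_zero (nilpotent_iff_mem_prime.2 fun P hP => ?_))
  haveI := hP
  refine Ideal.algebraMap_residueField_eq_zero.1 ?_
  rw [map_sub, sub_eq_zero]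
  exact RingHom.congr_fun (hψ.field P.ResidueField ((algebraMap W _).comp χ₁) ((algebraMap W _).comp χ₂)
    (by rw [RingHom.comp_assoc, RingHom.comp_assoc, h])) c

/-- A universal homeomorphism into a normal ring is final. -/
theorem final_of_normal {r : Prop} (hW : Normal r W) (φ : A →+* W)
    {C : Type u} [CommRing C] (ψ : A →+* C) (hψ : UH.Good r ψ) : ∃! χ : C →+* W, χ.comp ψ = φ := by
  haveI := isReduced_of_sn hW.1
  letI := φ.toAlgebra
  letI := ψ.toAlgebra
  let D := W ⊗[A] C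
  haveI : IsReduced (D ⧸ nilradical D) :=
    (Ideal.isRadical_iff_quotient_reduced _).1 (Ideal.radical_isRadical (0 : Ideal D))
  have hb := bijective_of_good hW (good_comp_red (UH.good_tensor (B := W) (C := C) hψ))
  let e := RingEquiv.ofBijective _ hb
  refine ⟨(e.symm.toRingHom.comp (Ideal.Quotient.mk (nilradical D))).comp
    Algebra.TensorProduct.includeRight.toRingHom, RingHom.ext fun a => ?_,
    fun χ hχ => eq_of_good hψ _ _ (hχ.trans (RingHom.ext fun a => ?_))⟩
  · show e.symm (Ideal.Quotient.mk (nilradical D) ((1 : W) ⊗ₜ[A] ψ a)) = φ a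
    rw [e.symm_apply_eq]
    show Ideal.Quotient.mk (nilradical D) _ = Ideal.Quotient.mk (nilradical D) (φ a ⊗ₜ[A] (1 : C))
    rw [show φ a = a • (1 : W) by rw [Algebra.smul_def, mul_one]; rfl,
      show ψ a = a • (1 : C) by rw [Algebra.smul_def, mul_one]; rfl, TensorProduct.smul_tmul]
  · show φ a = e.symm (Ideal.Quotient.mk (nilradical D) ((1 : W) ⊗ₜ[A] ψ a))
    rw [eq_comm, e.symm_apply_eq]
    show Ideal.Quotient.mk (nilradical D) _ = Ideal.Quotient.mk (nilradical D) (φ a ⊗ₜ[A] (1 : C))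
    rw [show φ a = a • (1 : W) by rw [Algebra.smul_def, mul_one]; rfl,
      show ψ a = a • (1 : C) by rw [Algebra.smul_def, mul_one]; rfl, TensorProduct.smul_tmul]

/-- The target of a final universal homeomorphism is normal. -/
theorem normal_of_final {r : Prop} (φ : A →+* W) (hφ : UH.Good r φ)
    (hfin : ∀ (C : Type u) [CommRing C] (ψ : A →+* C), UH.Good r ψ → ∃! χ : C →+* W, χ.comp ψ = φ) :
    Normal r W := by
  have retr : ∀ (C : Type u) [CommRing C] (j : W →+* C), UH.Good r j →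
      ∃ χ : C →+* W, χ.comp j = RingHom.id W := by
    intro C _ j hj
    obtain ⟨χ, hχ, -⟩ := hfin C (j.comp φ) (UH.good_comp hφ hj)
    refine ⟨χ, (hfin W φ hφ).unique ?_ (RingHom.id_comp φ)⟩
    show (χ.comp j).comp φ = φ
    rw [RingHom.comp_assoc]; exact hχ
  haveI : IsReduced W := by
    obtain ⟨χ, hχ⟩ := retr (W ⧸ nilradical W) (Ideal.Quotient.mk _)
      (UH.good_of_surjective r Ideal.Quotient.mk_surjective fun a ha => by rw [Ideal.mk_ker] at ha; exact ha)
    exact ⟨fun x hx => by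
      rw [← RingHom.id_apply (α := W) x, ← hχ, RingHom.comp_apply,
        Ideal.Quotient.eq_zero_iff_mem.2 (mem_nilradical.2 hx), map_zero]⟩
  refine normal_of_bijective fun D _ _ j hj => ?_
  obtain ⟨χ, hχ⟩ := retr D j hj
  refine ⟨Function.LeftInverse.injective (RingHom.congr_fun hχ), fun d => ⟨χ d, ?_⟩⟩
  exact RingHom.congr_fun (eq_of_good hj (j.comp χ) (RingHom.id D) (by
    rw [RingHom.comp_assoc, hχ]; rfl)) d

theorem good_iff_false {φ : A →+* B} :
    UH.Good False φ ↔ FlatMor.IsUnivHomeo (Spec.map (CommRingCat.ofHom φ)) :=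
  ⟨fun h => h.univHomeo, fun h => UH.good_of_univHomeo h fun hf => hf.elim⟩

theorem good_iff_true {φ : A →+* B} :
    UH.Good True φ ↔ FlatMor.IsUnivHomeo (Spec.map (CommRingCat.ofHom φ)) ∧
      HTop.ResidueFieldsIso (Spec.map (CommRingCat.ofHom φ)) := by
  constructor
  · exact fun h => ⟨h.univHomeo, fun y => (ConcreteCategory.isIso_iff_bijective _).2
      ⟨RingHom.injective _, (UH.forall_residueFieldMap_surjective_iff φ).2 (h.res trivial) y⟩⟩
  · exact fun h => UH.good_of_univHomeo h.1 fun _ => (UH.forall_residueFieldMap_surjective_iff φ).1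
      fun y => ((ConcreteCategory.isIso_iff_bijective _).1 (h.2 y)).2

theorem isRingAWN_iff {φ : A →+* W} :
    HTop.IsRingAWN φ ↔ UH.Good False φ ∧ Normal False W := by
  constructor
  · intro h
    exact ⟨good_iff_false.2 h.1, normal_of_final φ (good_iff_false.2 h.1)
      fun C _ ψ hψ => h.2 C ψ (good_iff_false.1 hψ)⟩
  · exact fun h => ⟨good_iff_false.1 h.1, fun C _ ψ hψ => final_of_normal h.2 φ ψ (good_iff_false.2 hψ)⟩

theorem isRingSN_iff {φ : A →+* W} :
    HTop.IsRingSN φ ↔ UH.Good True φ ∧ Normal True W := by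
  constructor
  · intro h
    exact ⟨good_iff_true.2 h.1, normal_of_final φ (good_iff_true.2 h.1)
      fun C _ ψ hψ => h.2 C ψ (good_iff_true.1 hψ).1 (good_iff_true.1 hψ).2⟩
  · exact fun h => ⟨good_iff_true.1 h.1, fun C _ ψ h1 h2 => final_of_normal h.2 φ ψ (good_iff_true.2 ⟨h1, h2⟩)⟩

/-- Localisations of normal rings. -/
theorem normal_localization {r : Prop} (hA : Normal r A) (M : Submonoid A) (S : Type u) [CommRing S] [Algebra A S]
    [IsLocalization M S] : Normal r S := by
  haveI := isReduced_of_sn hA.1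
  haveI : IsReduced S := isReduced_localizationPreserves M S inferInstance
  have sn : HTop.IsSeminormalRing S := by
    intro x y hxy
    obtain ⟨⟨a, s⟩, hx⟩ := IsLocalization.surj M x
    obtain ⟨⟨b, t⟩, hy⟩ := IsLocalization.surj M y
    -- common denominators `(st)^2`, `(st)^3`
    have hxy' : algebraMap A S ((a * s * t ^ 2) ^ 3) = algebraMap A S ((b * s ^ 3 * t ^ 2) ^ 2) := by
      simp only [map_pow, map_mul]
      rw [← hx, ← hy]
      linear_combination (algebraMap A S s) ^ 6 * (algebraMap A S t) ^ 6 * hxy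
    obtain ⟨⟨u, hu⟩, he⟩ := (IsLocalization.eq_iff_exists M S).1 hxy'
    obtain ⟨c, ⟨hc2, hc3⟩, -⟩ := hA.1 (u ^ 2 * (a * s * t ^ 2)) (u ^ 3 * (b * s ^ 3 * t ^ 2)) (by
      linear_combination u ^ 5 * he)
    let d : M := ⟨u, hu⟩ * s * t
    have h2 : x = IsLocalization.mk' S c d ^ 2 := by
      refine ((IsLocalization.map_units S d).pow 2).mul_left_inj.1 ?_
      rw [← mul_pow _ _ 2, IsLocalization.mk'_spec, ← map_pow, ← map_pow, ← hc2]
      simp only [d, Submonoid.coe_mul, map_pow, map_mul]; rw [← hx]; ring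
    have h3 : y = IsLocalization.mk' S c d ^ 3 := by
      refine ((IsLocalization.map_units S d).pow 3).mul_left_inj.1 ?_
      rw [← mul_pow _ _ 3, IsLocalization.mk'_spec, ← map_pow, ← map_pow, ← hc3]
      simp only [d, Submonoid.coe_mul, map_pow, map_mul]; rw [← hy]; ring
    exact ⟨IsLocalization.mk' S c d, ⟨h2, h3⟩, fun z hz =>
      ext_sq_cube (hz.1.symm.trans h2) (hz.2.symm.trans h3)⟩
  refine ⟨sn, fun hr => ⟨sn, fun p hp x y hxy => ?_⟩⟩
  obtain ⟨⟨a, s⟩, hx⟩ := IsLocalization.surj M x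
  obtain ⟨⟨b, t⟩, hy⟩ := IsLocalization.surj M y
  obtain ⟨k, rfl⟩ : ∃ k, p = k + 1 := ⟨p - 1, (Nat.sub_add_cancel hp.one_le).symm⟩
  have hxy' : algebraMap A S (((k + 1 : ℕ) : A) ^ (k + 1) * (a * s ^ k * t ^ (k + 1))) =
      algebraMap A S ((b * s) ^ (k + 1)) := by
    simp only [map_pow, map_mul, map_natCast]
    rw [← hx, ← hy, mul_pow, mul_pow, ← hxy]
    ring
  obtain ⟨⟨u, hu⟩, he⟩ := (IsLocalization.eq_iff_exists M S).1 hxy'
  obtain ⟨c, ⟨hc1, hc2⟩, -⟩ := (hA.2 hr).2 (k + 1) hp (u ^ (k + 1) * (a * s ^ k * t ^ (k + 1))) (u * (b * s)) (by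
    linear_combination u ^ k * he)
  let d : M := ⟨u, hu⟩ * s * t
  have e1 : x = IsLocalization.mk' S c d ^ (k + 1) := by
    refine ((IsLocalization.map_units S d).pow (k + 1)).mul_left_inj.1 ?_
    rw [← mul_pow _ _ (k + 1), IsLocalization.mk'_spec, ← map_pow, ← map_pow, ← hc1]
    simp only [d, Submonoid.coe_mul, map_pow, map_mul]; rw [← hx]; ring
  have e2 : y = ((k + 1 : ℕ) : S) * IsLocalization.mk' S c d := by
    refine (IsLocalization.map_units S d).mul_left_inj.1 ?_
    rw [mul_assoc, IsLocalization.mk'_spec, ← map_natCast (algebraMap A S), ← map_mul, ← hc2]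
    simp only [d, Submonoid.coe_mul, map_mul]; rw [← hy]; ring
  exact ⟨IsLocalization.mk' S c d, ⟨e1, e2⟩, fun z hz => ext_pow_prime hp (hz.1.symm.trans e1) (hz.2.symm.trans e2)⟩

/-- Two monomial equations with at most one solution glue. -/
theorem exists_glue (s : Finset A) (hs : Ideal.span (s : Set A) = ⊤)
    (hred : ∀ f g : A, f ∈ s → g ∈ s → IsReduced (Localization.Away (f * g))) (n m c : ℕ) (x y : A)
    (huniq : ∀ (R : Type u) [CommRing R] [IsReduced R] (a b : R), a ^ n = b ^ n →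
      (c : R) * a ^ m = (c : R) * b ^ m → a = b)
    (hex : ∀ f ∈ s, ∃ a : Localization.Away f, algebraMap A _ x = a ^ n ∧ algebraMap A _ y = (c : Localization.Away f) * a ^ m) :
    ∃ a : A, x = a ^ n ∧ y = (c : A) * a ^ m := by
  choose a ha using fun f : (s : Set A) => hex f.1 f.2
  obtain ⟨r, hr, -⟩ := Localization.existsUnique_algebraMap_eq_of_span_eq_top (s : Set A) hs a fun f g => by
    haveI := hred f g f.2 g.2
    refine huniq _ _ _ ?_ ?_
    · rw [← map_pow, ← map_pow, ← (ha f).1, ← (ha g).1, IsLocalization.Away.awayToAwayRight_eq,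
        IsLocalization.Away.awayToAwayLeft_eq]
    · rw [← map_natCast (IsLocalization.Away.awayToAwayRight (S := Localization.Away f.1)
          (P := Localization.Away (f.1 * g.1)) f.1 g.1), ← map_pow, ← map_mul, ← (ha f).2,
        map_natCast, ← map_natCast (IsLocalization.Away.awayToAwayLeft (S := Localization.Away g.1)
          (P := Localization.Away (f.1 * g.1)) g.1 f.1), ← map_pow, ← map_mul, ← (ha g).2,
        IsLocalization.Away.awayToAwayRight_eq, IsLocalization.Away.awayToAwayLeft_eq]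
  have inj := Localization.algebraMap_injective_of_span_eq_top (s : Set A) hs
  refine ⟨r, inj (funext fun f => ?_), inj (funext fun f => ?_)⟩
  · show algebraMap A (Localization.Away f.1) x = algebraMap A (Localization.Away f.1) (r ^ n)
    rw [map_pow, hr, (ha f).1]
  · show algebraMap A (Localization.Away f.1) y = algebraMap A (Localization.Away f.1) ((c : A) * r ^ m)
    rw [map_mul, map_pow, map_natCast, hr, (ha f).2]

theorem normal_of_span {r : Prop} (s : Finset A) (hs : Ideal.span (s : Set A) = ⊤)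
    (h : ∀ f ∈ s, Normal r (Localization.Away f)) : Normal r A := by
  haveI : IsReduced A := by
    haveI : ∀ f : (s : Set A), IsReduced (Localization.Away f.1) := fun f => isReduced_of_sn (h f.1 f.2).1
    exact isReduced_of_injective _ (Localization.algebraMap_injective_of_span_eq_top (s : Set A) hs)
  have hred : ∀ f g : A, f ∈ s → g ∈ s → IsReduced (Localization.Away (f * g)) := fun f g _ _ =>
    isReduced_localizationPreserves (Submonoid.powers (f * g)) _ inferInstance
  have sn : HTop.IsSeminormalRing A := by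
    intro x y hxy
    obtain ⟨a, ha⟩ := exists_glue s hs hred 2 3 1 x y (fun R _ _ a b h2 h3 => ext_sq_cube h2 (by simpa using h3))
      fun f hf => by
        obtain ⟨a, ⟨h2, h3⟩, -⟩ := (h f hf).1 (algebraMap A _ x) (algebraMap A _ y)
          (by rw [← map_pow, ← map_pow, hxy])
        exact ⟨a, h2, by rw [Nat.cast_one, one_mul]; exact h3⟩
    rw [Nat.cast_one, one_mul] at ha
    exact ⟨a, ha, fun b hb => ext_sq_cube (hb.1.symm.trans ha.1) (hb.2.symm.trans ha.2)⟩
  refine ⟨sn, fun hr => ⟨sn, fun p hp x y hxy => ?_⟩⟩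
  obtain ⟨a, ha⟩ := exists_glue s hs hred p 1 p x y
    (fun R _ _ a b h1 h2 => ext_pow_prime hp h1 (by simpa using h2)) fun f hf => by
      obtain ⟨a, ⟨h1, h2⟩, -⟩ := ((h f hf).2 hr).2 p hp (algebraMap A _ x) (algebraMap A _ y)
        (by rw [← map_natCast (algebraMap A (Localization.Away f)), ← map_pow, ← map_pow, ← map_mul, hxy])
      exact ⟨a, h1, by rw [pow_one]; exact h2⟩
  rw [pow_one] at ha
  exact ⟨a, ha, fun b hb => ext_pow_prime hp (hb.1.symm.trans ha.1) (hb.2.symm.trans ha.2)⟩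

theorem sn_of_closed [IsDomain A] [IsIntegrallyClosed A] : HTop.IsSeminormalRing A := by
  intro x y hxy
  suffices h : ∃ a, x = a ^ 2 ∧ y = a ^ 3 by
    obtain ⟨a, ha⟩ := h
    exact ⟨a, ha, fun b hb => ext_sq_cube (hb.1.symm.trans ha.1) (hb.2.symm.trans ha.2)⟩
  by_cases hx0 : x = 0
  · refine ⟨0, by simpa using hx0, ?_⟩
    rw [hx0, zero_pow three_ne_zero] at hxy
    simpa using eq_zero_of_pow_eq_zero hxy.symm
  let K := FractionRing A
  have hx' : algebraMap A K x ≠ 0 := (map_ne_zero_iff _ (IsFractionRing.injective A K)).2 hx0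
  let z : K := algebraMap A K y / algebraMap A K x
  have hz2 : z ^ 2 = algebraMap A K x := by
    rw [div_pow, div_eq_iff (pow_ne_zero 2 hx'), ← map_pow, ← map_pow, ← map_mul, ← hxy]
    congr 1; ring
  obtain ⟨a, ha⟩ : ∃ a, algebraMap A K a = z :=
    IsIntegrallyClosed.isIntegral_iff.1 (IsIntegral.of_pow two_pos (hz2 ▸ isIntegral_algebraMap))
  have hax : x = a ^ 2 := IsFractionRing.injective A K (by rw [map_pow, ha, hz2])
  refine ⟨a, hax, IsFractionRing.injective A K ?_⟩
  rw [map_pow, ha, pow_succ, hz2, mul_div_cancel₀ _ hx']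

end Groth.Agent.SN26
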