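import Groth.Agent.Lib.Seminormal26.Ring2
import Groth.Agent.Lib.UnivHomeo.Morph
import Mathlib.AlgebraicGeometry.Morphisms.Separated
import Mathlib.AlgebraicGeometry.Morphisms.Affine
import Mathlib.AlgebraicGeometry.Morphisms.ClosedImmersion
import Mathlib.AlgebraicGeometry.Properties
import Mathlib.AlgebraicGeometry.Morphisms.Proper
import Groth.Agent.Lib.RedSep.Basic

/-! # Seminormal and absolutely weakly normal schemes -/

universe u

open CategoryTheory CategoryTheory.Limits AlgebraicGeometry

namespace Groth.Agent.SN26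

variable {X Y Z : Scheme.{u}} {r : Prop}

/-- Universal homeomorphism, with trivial residue extensions if `r` holds. -/
def GoodHom (r : Prop) (π : Y ⟶ X) : Prop :=
  FlatMor.IsUnivHomeo π ∧ (r → HTop.ResidueFieldsIso π)

theorem goodHom_false_iff {π : Y ⟶ X} : GoodHom False π ↔ FlatMor.IsUnivHomeo π :=
  ⟨fun h => h.1, fun h => ⟨h, False.elim⟩⟩

theorem goodHom_true_iff {π : Y ⟶ X} : GoodHom True π ↔ FlatMor.IsUnivHomeo π ∧ HTop.ResidueFieldsIso π :=
  ⟨fun h => ⟨h.1, h.2 trivial⟩, fun h => ⟨h.1, fun _ => h.2⟩⟩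

theorem GoodHom.isAffineHom {π : Y ⟶ X} (h : GoodHom r π) : IsAffineHom π := by
  have hh := UH.isHomeomorph_of_isUnivHomeo h.1
  exact isAffineHom_of_isInducing π hh.isInducing (by rw [hh.surjective.range_eq]; exact isClosed_univ)

theorem goodHom_id (X : Scheme.{u}) : GoodHom r (𝟙 X) :=
  ⟨UH.isUnivHomeo_of _, fun _ x => (inferInstance : IsIso ((𝟙 X : X ⟶ X).residueFieldMap x))⟩

theorem ui_iff (π : Y ⟶ X) : UniversallyInjective π ↔
    ∀ (K : Type u) [Field K], Function.Injective (fun g : Spec (.of K) ⟶ Y => g ≫ π) :=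
  (tfae_universallyInjective π).out 0 1

theorem GoodHom.point_ext {π : Y ⟶ X} (h : GoodHom r π) (K : Type u) [Field K] {a b : Spec (.of K) ⟶ Y}
    (e : a ≫ π = b ≫ π) : a = b :=
  (ui_iff π).1 (UH.universallyInjective_of_isUnivHomeo h.1) K e

theorem GoodHom.exists_point {π : Y ⟶ X} (h : GoodHom r π) (hr : r) (K : Type u) [Field K] (a : Spec (.of K) ⟶ X) :
    ∃ b : Spec (.of K) ⟶ Y, b ≫ π = a := by
  obtain ⟨⟨x, ψ⟩, rfl⟩ := (X.SpecToEquivOfField K).symm.surjective a
  obtain ⟨y, rfl⟩ := (UH.isHomeomorph_of_isUnivHomeo h.1).surjective x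
  haveI := h.2 hr y
  refine ⟨Spec.map (inv (π.residueFieldMap y) ≫ ψ) ≫ Y.fromSpecResidueField y, ?_⟩
  rw [Category.assoc, ← Scheme.Hom.SpecMap_residueFieldMap_fromSpecResidueField, ← Spec.map_comp_assoc,
    IsIso.hom_inv_id_assoc]
  rfl

theorem residueFieldsIso_of_points {π : Y ⟶ X} (hinj : ∀ (K : Type u) [Field K] (a b : Spec (.of K) ⟶ Y),
      a ≫ π = b ≫ π → a = b)
    (hex : ∀ (K : Type u) [Field K] (a : Spec (.of K) ⟶ X), ∃ b : Spec (.of K) ⟶ Y, b ≫ π = a) :
    HTop.ResidueFieldsIso π := by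
  intro y
  obtain ⟨b, hb⟩ := hex (X.residueField (π y)) (X.fromSpecResidueField (π y))
  obtain ⟨⟨y', ψ⟩, rfl⟩ := (Y.SpecToEquivOfField (X.residueField (π y))).symm.surjective b
  change (Spec.map ψ ≫ Y.fromSpecResidueField y') ≫ π = _ at hb
  rw [Category.assoc, ← Scheme.Hom.SpecMap_residueFieldMap_fromSpecResidueField, ← Spec.map_comp_assoc] at hb
  have hy : y' = y := by
    have : UniversallyInjective π := (ui_iff π).2 fun K _ a b e => hinj K a b e
    refine π.injective ?_
    have := congrArg (fun q => q (IsLocalRing.closedPoint (X.residueField (π y)))) hb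
    simp only [Scheme.Hom.comp_apply, Scheme.fromSpecResidueField_apply] at this
    exact this.trans (Scheme.fromSpecResidueField_apply _ _)
  subst hy
  have hid := Spec.map_injective (((cancel_mono (X.fromSpecResidueField (π y'))).1
    (hb.trans (by rw [Spec.map_id, Category.id_comp] : X.fromSpecResidueField (π y') =
      Spec.map (𝟙 (X.residueField (π y'))) ≫ X.fromSpecResidueField (π y')))))
  refine (ConcreteCategory.isIso_iff_bijective _).2 ⟨RingHom.injective _, fun w => ⟨ψ w, ?_⟩⟩
  exact ψ.hom.injective (congr($(hid) (ψ w)))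

theorem goodHom_comp {π : Y ⟶ X} {ρ : Z ⟶ Y} (h₁ : GoodHom r π) (h₂ : GoodHom r ρ) : GoodHom r (ρ ≫ π) := by
  refine ⟨UH.isUnivHomeo_comp h₂.1 h₁.1, fun hr z => ?_⟩
  rw [Scheme.residueFieldMap_comp]
  exact IsIso.comp_isIso' (h₁.2 hr (ρ z)) (h₂.2 hr z)

theorem GoodHom.baseChange {π : Y ⟶ X} (h : GoodHom r π) {P : Scheme.{u}} {f' : P ⟶ Z} {g' : P ⟶ Y} {g : Z ⟶ X}
    (sq : IsPullback g' f' π g) : GoodHom r f' := by
  have hu : FlatMor.IsUnivHomeo f' :=
    (MorphismProperty.universally_isStableUnderBaseChange _).of_isPullback sq h.1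
  refine ⟨hu, fun hr => residueFieldsIso_of_points (fun K _ a b e => ?_) fun K _ a => ?_⟩
  · exact (ui_iff f').1 (UH.universallyInjective_of_isUnivHomeo hu) K e
  · obtain ⟨b, hb⟩ := h.exists_point hr K (a ≫ g)
    exact ⟨sq.lift b a hb, sq.lift_snd _ _ _⟩

theorem goodHom_top {π : Y ⟶ X} {h : Z ⟶ Y} (h₁ : GoodHom r π) (h₂ : GoodHom r (h ≫ π)) : GoodHom r h := by
  haveI := UH.universallyInjective_of_isUnivHomeo h₁.1
  haveI := h₁.isAffineHom
  have hu : FlatMor.IsUnivHomeo h := by
    have huc := UH.universallyClosed_of_isUnivHomeo h₂.1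
    haveI : UniversallyClosed h := UniversallyClosed.of_comp_of_isSeparated h π
    haveI : UniversallyInjective (h ≫ π) := UH.universallyInjective_of_isUnivHomeo h₂.1
    haveI : UniversallyInjective h := (ui_iff h).2 fun K _ a b e =>
      h₂.point_ext K (by simp only at e; rw [← Category.assoc, e, Category.assoc])
    haveI : Surjective h := ⟨fun y => by
      obtain ⟨z, hz⟩ := (UH.isHomeomorph_of_isUnivHomeo h₂.1).surjective (π y)
      exact ⟨z, π.injective hz⟩⟩
    exact UH.isUnivHomeo_of h
  refine ⟨hu, fun hr => residueFieldsIso_of_points (fun K _ a b e => ?_) fun K _ a => ?_⟩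
  · exact (ui_iff h).1 (UH.universallyInjective_of_isUnivHomeo hu) K e
  · obtain ⟨b, hb⟩ := h₂.exists_point hr K (a ≫ π)
    exact ⟨b, h₁.point_ext K (by rw [Category.assoc, hb])⟩

/-- The square of spectra of sections over an affine open. -/
theorem isPullback_fromSpec (π : Y ⟶ X) {U : X.Opens} (hU : IsAffineOpen U) (hV : IsAffineOpen (π ⁻¹ᵁ U)) :
    IsPullback hV.fromSpec (Spec.map (π.app U)) π hU.fromSpec := by
  refine (IsOpenImmersion.isPullback _ _ _ _ ?_ ?_).flip
  · rw [Scheme.Hom.app_eq_appLE]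
    exact (hU.SpecMap_appLE_fromSpec π hV le_rfl).symm
  · rw [hU.opensRange_fromSpec, hV.opensRange_fromSpec]

theorem GoodHom.good_app {π : Y ⟶ X} (h : GoodHom r π) {U : X.Opens} (hU : IsAffineOpen U) :
    UH.Good r (π.app U).hom := by
  haveI := h.isAffineHom
  have hg := h.baseChange (isPullback_fromSpec π hU (hU.preimage π))
  exact UH.good_of_univHomeo hg.1 fun hr => (UH.forall_residueFieldMap_surjective_iff _).1 fun x =>
    ((ConcreteCategory.isIso_iff_bijective _).1 (hg.2 hr x)).2

/-- All affine opens have normal rings of sections. -/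
def NormalScheme (r : Prop) (X : Scheme.{u}) : Prop :=
  ∀ U : X.affineOpens, Normal r Γ(X, U)

theorem normalScheme_of_local
    (h : ∀ x : X, ∃ U : X.affineOpens, x ∈ (U : X.Opens) ∧ Normal r Γ(X, U)) : NormalScheme r X := by
  intro V
  choose U hxU hU using h
  refine of_affine_open_cover (P := fun W : X.affineOpens => Normal r Γ(X, W)) U ?_ V ?_ ?_ hU
  · exact top_unique fun x _ => TopologicalSpace.Opens.mem_iSup.2 ⟨x, hxU x⟩
  · intro W f hW
    haveI := W.2.isLocalization_basicOpen f
    exact normal_localization hW (Submonoid.powers f) Γ(X, X.basicOpen f)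
  · intro W s hs h
    refine normal_of_span s hs fun f hf => ?_
    haveI := W.2.isLocalization_basicOpen f
    exact normal_equiv (IsLocalization.algEquiv (Submonoid.powers f) Γ(X, X.basicOpen f)
      (Localization.Away f)).toRingEquiv (h ⟨f, hf⟩)

theorem exists_mem_affine (X : Scheme.{u}) (x : X) : ∃ U : X.affineOpens, x ∈ (U : X.Opens) := by
  obtain ⟨U, hU, hx, -⟩ := exists_isAffineOpen_mem_and_subset (U := (⊤ : X.Opens)) (x := x) trivial
  exact ⟨⟨U, hU⟩, hx⟩

theorem normalScheme_true_iff : NormalScheme True X ↔ HTop.IsSeminormal X :=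
  ⟨fun h x => (exists_mem_affine X x).imp fun U hU => ⟨hU, normal_true_iff.1 (h U)⟩,
    fun h => normalScheme_of_local fun x => (h x).imp fun _ hU => ⟨hU.1, normal_true_iff.2 hU.2⟩⟩

theorem normalScheme_false_iff : NormalScheme False X ↔ HTop.IsAWN X :=
  ⟨fun h x => (exists_mem_affine X x).imp fun U hU => ⟨hU, normal_false_iff.1 (h U)⟩,
    fun h => normalScheme_of_local fun x => (h x).imp fun _ hU => ⟨hU.1, normal_false_iff.2 hU.2⟩⟩

theorem NormalScheme.isReduced (h : NormalScheme r X) : AlgebraicGeometry.IsReduced X := by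
  haveI : ∀ i : X.affineCover.I₀, AlgebraicGeometry.IsReduced (X.affineCover.X i) := fun i => by
    haveI : IsAffine (X.affineCover.X i) := inferInstance
    haveI := isReduced_of_sn (h ⟨_, (isAffineOpen_top (X.affineCover.X i)).image_of_isOpenImmersion (X.affineCover.f i)⟩).1
    haveI : _root_.IsReduced Γ(X.affineCover.X i, ⊤) :=
      isReduced_of_injective ((X.affineCover.f i).appIso ⊤).inv.hom
        ((X.affineCover.f i).appIso ⊤).symm.commRingCatIsoToRingEquiv.injective
    exact isReduced_of_isAffine_isReduced (X.affineCover.X i)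
  exact IsReduced.of_openCover X X.affineCover

/-- Surjective closed immersions are good. -/
theorem goodHom_of_closed (ι : Y ⟶ X) [IsClosedImmersion ι] [Surjective ι] : GoodHom r ι := by
  refine ⟨UH.isUnivHomeo_of_isImmersion _, fun _ => residueFieldsIso_of_points
    (fun K _ a b e => (cancel_mono ι).1 e) fun K _ a => ?_⟩
  haveI : Surjective (pullback.fst a ι) := MorphismProperty.pullback_fst _ _ inferInstance
  haveI : IsIso (pullback.fst a ι) := isIso_of_isClosedImmersion_of_surjective _
  exact ⟨inv (pullback.fst a ι) ≫ pullback.snd a ι, by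
    rw [Category.assoc, ← pullback.condition, IsIso.inv_hom_id_assoc]⟩

theorem hom_ext_of_good [AlgebraicGeometry.IsReduced Z] {π : Y ⟶ X} (h : GoodHom r π) (a b : Z ⟶ Y)
    (e : a ≫ π = b ≫ π) : a = b := by
  haveI := h.isAffineHom
  exact ext_of_fromSpecResidueField_eq a b π Set.univ dense_univ
    (fun z _ => h.point_ext _ ((Category.assoc _ _ _).trans
      ((congrArg (Z.fromSpecResidueField z ≫ ·) e).trans (Category.assoc _ _ _).symm))) e

/-- Universal homeomorphisms from reduced to normal schemes are isomorphisms. -/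
theorem isIso_of_good {π : Y ⟶ X} (h : GoodHom r π) (hX : NormalScheme r X) [AlgebraicGeometry.IsReduced Y] :
    IsIso π := by
  haveI := h.isAffineHom
  refine (IsZariskiLocalAtTarget.iff_of_iSup_eq_top (P := MorphismProperty.isomorphisms Scheme.{u})
    (fun U : X.affineOpens => (U : X.Opens)) (iSup_affineOpens_eq_top X)).2 fun U => ?_
  have hb := bijective_of_good (hX U) (h.good_app U.2)
  haveI : IsIso (π.app U) := (ConcreteCategory.isIso_iff_bijective _).2 hb
  haveI : IsAffine (U : X.Opens) := U.2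
  haveI : IsAffine (π ⁻¹ᵁ (U : X.Opens)) := U.2.preimage π
  rw [MorphismProperty.arrow_mk_iso_iff (MorphismProperty.isomorphisms Scheme.{u})
    (arrowIsoSpecΓOfIsAffine (π ∣_ (U : X.Opens)))]
  show IsIso (Spec.map _)
  haveI : IsIso (π ∣_ (U : X.Opens)).appTop := by
    rw [morphismRestrict_appTop]
    have key : ∀ W : X.Opens, W = U → IsIso (π.app W) := fun W hW => by subst hW; infer_instance
    haveI := key _ (Scheme.Opens.ι_image_top (U : X.Opens))
    exact @IsIso.comp_isIso _ _ _ _ _ _ _ (key _ (Scheme.Opens.ι_image_top (U : X.Opens))) (Functor.map_isIso _ _)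
  infer_instance

theorem goodHom_red (X : Scheme.{u}) : GoodHom r X.nilradical.subschemeι := by
  haveI : Surjective X.nilradical.subschemeι := ⟨fun p => by
    show p ∈ Set.range X.nilradical.subschemeι
    rw [Scheme.IdealSheafData.range_subschemeι, Scheme.support_nilradical]
    trivial⟩
  exact goodHom_of_closed _

/-- A normal scheme maps uniquely over every universal homeomorphism. -/
theorem isFinal_of_normal {X' : Scheme.{u}} (ν : X' ⟶ X) (hX' : NormalScheme r X')
    {π : Y ⟶ X} (hπ : GoodHom r π) : ∃! h : X' ⟶ Y, h ≫ π = ν := by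
  haveI := hX'.isReduced
  let P := pullback π ν
  haveI : AlgebraicGeometry.IsReduced P.nilradical.subscheme := RedSepLib.isReduced_nilradical_subscheme P
  have hP : GoodHom r (P.nilradical.subschemeι ≫ pullback.snd π ν) :=
    goodHom_comp (hπ.baseChange (IsPullback.of_hasPullback π ν)) (goodHom_red P)
  haveI := isIso_of_good hP hX'
  refine ⟨inv (P.nilradical.subschemeι ≫ pullback.snd π ν) ≫ P.nilradical.subschemeι ≫ pullback.fst π ν, ?_,
    fun h hh => hom_ext_of_good hπ _ _ (hh.trans ?_)⟩
  all_goals simp only [Category.assoc, pullback.condition, IsIso.inv_hom_id_assoc]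
  all_goals simp

theorem NormalScheme.of_isOpenImmersion (f : Y ⟶ X) [IsOpenImmersion f] (h : NormalScheme r X) :
    NormalScheme r Y := fun U =>
  normal_equiv (f.appIso U).commRingCatIsoToRingEquiv (h ⟨_, U.2.image_of_isOpenImmersion f⟩)

end Groth.Agent.SN26
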