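import Groth.Agent.Lib.KrullAkizuki.DVR
import Groth.Agent.S0549
import Mathlib.RingTheory.AdicCompletion.LocalRing

/-! # Chains of two primes are seen by complete discrete valuation rings -/

universe u

open IsLocalRing

namespace Groth.Agent.SN26

theorem exists_complete_dvr_of_domain (D : Type u) [CommRing D] [IsDomain D] [IsNoetherianRing D]
    (P : Ideal D) [P.IsPrime] (hP : P ≠ ⊥) :
    ∃ (R : Type u) (_ : CommRing R) (_ : IsDomain R) (_ : IsDiscreteValuationRing R)
      (_ : IsAdicComplete (maximalIdeal R) R) (θ : D →+* R),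
      Function.Injective θ ∧ (maximalIdeal R).comap θ = P := by
  let O := Localization.AtPrime P
  have hle : P.primeCompl ≤ nonZeroDivisors D := P.primeCompl_le_nonZeroDivisors
  haveI : IsDomain O := IsLocalization.isDomain_localization hle
  haveI : IsNoetherianRing O := IsLocalization.isNoetherianRing P.primeCompl O inferInstance
  have hm : (maximalIdeal O).comap (algebraMap D O) = P := IsLocalization.AtPrime.comap_maximalIdeal O P
  have hO : ¬ IsField O := fun h => hP (by
    rw [← hm, IsLocalRing.isField_iff_maximalIdeal_eq.1 h, ← RingHom.ker_eq_comap_bot,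
      (RingHom.injective_iff_ker_eq_bot _).1 (IsLocalization.injective O hle)])
  let K := FractionRing O
  obtain ⟨V, hV, h1, h2⟩ := KrullAkizuki.exists_dvr_dominating O hO K K
  obtain ⟨_, hR⟩ := (S0549.result V).1 ⟨inferInstance, hV⟩
  let ι : O →+* V := (algebraMap O K).codRestrict V h1
  let R := AdicCompletion (maximalIdeal V) V
  refine ⟨R, inferInstance, inferInstance, hR, inferInstance, ((algebraMap V R).comp ι).comp (algebraMap D O), ?_, ?_⟩
  · intro a b h
    exact IsLocalization.injective O hle (IsFractionRing.injective O K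
      (congrArg Subtype.val (AdicCompletion.of_injective (maximalIdeal V) V h)))
  · have hloc : (maximalIdeal V).comap ι = maximalIdeal O := by
      refine ((maximalIdeal.isMaximal O).eq_of_le (Ideal.IsPrime.comap ι (hK := inferInstance)).ne_top ?_).symm
      intro a ha
      show ι a ∈ maximalIdeal V
      exact (ValuationSubring.valuation_lt_one_iff V (ι a)).2 (h2 a ha)
    have hR' : (maximalIdeal R).comap (algebraMap V R) = maximalIdeal V :=
      ((IsLocalRing.local_hom_TFAE (algebraMap V R)).out 0 4 :
        IsLocalHom (algebraMap V R) ↔ (maximalIdeal R).comap (algebraMap V R) = maximalIdeal V).1 inferInstance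
    rw [← Ideal.comap_comap, ← Ideal.comap_comap, hR', hloc, hm]

theorem exists_complete_dvr {B : Type u} [CommRing B] [IsNoetherianRing B] {P₀ P : Ideal B} [P₀.IsPrime]
    [P.IsPrime] (hle : P₀ ≤ P) (hne : P₀ ≠ P) :
    ∃ (R : Type u) (_ : CommRing R) (_ : IsDomain R) (_ : IsDiscreteValuationRing R)
      (_ : IsAdicComplete (maximalIdeal R) R) (θ : B →+* R),
      RingHom.ker θ = P₀ ∧ (maximalIdeal R).comap θ = P := by
  haveI : (P.map (Ideal.Quotient.mk P₀)).IsPrime :=
    Ideal.map_isPrime_of_surjective Ideal.Quotient.mk_surjective (by rwa [Ideal.mk_ker])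
  have hc : (P.map (Ideal.Quotient.mk P₀)).comap (Ideal.Quotient.mk P₀) = P := by
    rw [Ideal.comap_map_of_surjective _ Ideal.Quotient.mk_surjective, ← RingHom.ker_eq_comap_bot, Ideal.mk_ker,
      sup_eq_left.2 hle]
  obtain ⟨R, _, _, _, _, θ, hθ, hθm⟩ := exists_complete_dvr_of_domain (B ⧸ P₀) (P.map (Ideal.Quotient.mk P₀))
    (fun h => hne (by rw [← hc, h, ← RingHom.ker_eq_comap_bot, Ideal.mk_ker]))
  refine ⟨R, inferInstance, inferInstance, inferInstance, inferInstance, θ.comp (Ideal.Quotient.mk P₀), ?_, ?_⟩
  · rw [RingHom.ker_comp_of_injective _ hθ, Ideal.mk_ker]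
  · rw [← Ideal.comap_comap, hθm, hc]

end Groth.Agent.SN26
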