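import Groth.Agent.Lib.Seminormal26.Scheme
import Mathlib.AlgebraicGeometry.AffineSpace
import Mathlib.AlgebraicGeometry.Morphisms.SchemeTheoreticallyDominant

/-! # Functions on seminormal schemes descend along proper surjective morphisms -/

universe u

open CategoryTheory CategoryTheory.Limits AlgebraicGeometry
open scoped TensorProduct

namespace Groth.Agent.SN26

theorem mem_range_of_tmul_eq {k K : Type u} [Field k] [CommRing K] [Nontrivial K] [Algebra k K] (c : K)
    (h : c ⊗ₜ[k] (1 : K) = (1 : K) ⊗ₜ[k] c) : ∃ a : k, algebraMap k K a = c := by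
  obtain ⟨φ, hφ⟩ := (Algebra.linearMap k K).exists_leftInverse_of_injective
    (LinearMap.ker_eq_bot.2 (algebraMap k K).injective)
  have h1 : φ 1 = 1 := by simpa using LinearMap.congr_fun hφ (1 : k)
  have := congrArg (fun z => TensorProduct.lid k K (φ.rTensor K z)) h
  simp only [LinearMap.rTensor_tmul, TensorProduct.lid_tmul, h1, one_smul] at this
  exact ⟨φ c, by rw [Algebra.algebraMap_eq_smul_one]; exact this⟩

theorem appTop_injective_of_surjective {P Q : Scheme.{u}} (m : P ⟶ Q) [QuasiCompact m] [Surjective m]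
    [AlgebraicGeometry.IsReduced Q] : Function.Injective m.appTop := by
  haveI : IsSchemeTheoreticallyDominant m := .of_isDominant m
  exact m.app_injective ⊤

variable {X Y : Scheme.{u}} {π : Y ⟶ X} {s : Γ(Y, ⊤)}

theorem point_value_eq (hs : (pullback.fst π π).appTop s = (pullback.snd π π).appTop s) {P : Scheme.{u}}
    (b b' : P ⟶ Y) (e : b ≫ π = b' ≫ π) : b.appTop s = b'.appTop s := by
  have := congrArg (pullback.lift b b' e).appTop hs
  rwa [← ConcreteCategory.comp_apply, ← ConcreteCategory.comp_apply, ← Scheme.Hom.comp_appTop,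
    ← Scheme.Hom.comp_appTop, pullback.lift_fst, pullback.lift_snd] at this

theorem exists_field_value [Surjective π] (hs : (pullback.fst π π).appTop s = (pullback.snd π π).appTop s)
    (K : Type u) [Field K] (a : Spec (.of K) ⟶ X) :
    ∃ (L : Type u) (_ : Field L) (m : Spec (.of L) ⟶ Spec (.of K)) (b : Spec (.of L) ⟶ Y)
      (c : Γ(Spec (CommRingCat.of K), ⊤)), b ≫ π = m ≫ a ∧ m.appTop c = b.appTop s := by
  haveI : Surjective (pullback.fst a π) := MorphismProperty.pullback_fst a π inferInstance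
  obtain ⟨z, -⟩ := (pullback.fst a π).surjective (IsLocalRing.closedPoint K)
  let L := (pullback a π).residueField z
  let q : Spec (.of L) ⟶ pullback a π := (pullback a π).fromSpecResidueField z
  obtain ⟨ψ, hψ⟩ := Spec.map_surjective (q ≫ pullback.fst a π)
  letI := ψ.hom.toAlgebra
  obtain ⟨b, hb⟩ : ∃ b : Spec (.of L) ⟶ Y, b ≫ π = Spec.map ψ ≫ a := ⟨q ≫ pullback.snd a π, by
    rw [hψ, Category.assoc, Category.assoc, pullback.condition]⟩
  let i₁ : CommRingCat.of L ⟶ CommRingCat.of ((L : Type u) ⊗[K] (L : Type u)) :=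
    CommRingCat.ofHom Algebra.TensorProduct.includeLeftRingHom
  let i₂ : CommRingCat.of L ⟶ CommRingCat.of ((L : Type u) ⊗[K] (L : Type u)) :=
    CommRingCat.ofHom (Algebra.TensorProduct.includeRight (R := K) (A := (L : Type u)) (B := (L : Type u))).toRingHom
  have hi : ψ ≫ i₁ = ψ ≫ i₂ := by
    ext k
    show ψ k ⊗ₜ[K] (1 : L) = (1 : L) ⊗ₜ[K] ψ k
    rw [show ψ k = k • (1 : L) by rw [Algebra.smul_def, mul_one]; rfl, TensorProduct.smul_tmul]
  have he := point_value_eq hs (Spec.map i₁ ≫ b) (Spec.map i₂ ≫ b) (by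
    rw [Category.assoc, Category.assoc, hb, ← Spec.map_comp_assoc, hi, Spec.map_comp_assoc])
  rw [Scheme.Hom.comp_appTop, Scheme.Hom.comp_appTop, ConcreteCategory.comp_apply, ConcreteCategory.comp_apply] at he
  let w : L := (Scheme.ΓSpecIso (.of L)).hom (b.appTop s)
  have hw : w ⊗ₜ[K] (1 : L) = (1 : L) ⊗ₜ[K] w := by
    have := congrArg (Scheme.ΓSpecIso (CommRingCat.of ((L : Type u) ⊗[K] (L : Type u)))).hom he
    have nat : ∀ (i : CommRingCat.of L ⟶ CommRingCat.of ((L : Type u) ⊗[K] (L : Type u))) (v : Γ(Spec (.of L), ⊤)),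
        (Scheme.ΓSpecIso _).hom ((Spec.map i).appTop v) = i ((Scheme.ΓSpecIso (.of L)).hom v) :=
      fun i v => congr($(Scheme.ΓSpecIso_naturality i) v)
    rw [nat, nat] at this
    exact this
  obtain ⟨k, hk⟩ := mem_range_of_tmul_eq w hw
  refine ⟨L, inferInstance, Spec.map ψ, b, (Scheme.ΓSpecIso (.of K)).inv k, hb, ?_⟩
  apply (Scheme.ΓSpecIso (CommRingCat.of L)).commRingCatIsoToRingEquiv.injective
  show (Scheme.ΓSpecIso (CommRingCat.of L)).hom _ = w
  rw [← ConcreteCategory.comp_apply ((Spec.map ψ).appTop), Scheme.ΓSpecIso_naturality, ← hk,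
    ← ConcreteCategory.comp_apply, Iso.inv_hom_id_assoc]
  rfl

theorem exists_descend (hX : NormalScheme True X) [IsProper π] [Surjective π] [AlgebraicGeometry.IsReduced Y]
    (hs : (pullback.fst π π).appTop s = (pullback.snd π π).appTop s) :
    ∃! t : Γ(X, ⊤), π.appTop t = s := by
  haveI := hX.isReduced
  let P : Type u := PUnit
  let p : 𝔸(P; X) ⟶ X := 𝔸(P; X) ↘ X
  let crd : Γ(𝔸(P; X), ⊤) := AffineSpace.coord X PUnit.unit
  let h₀ : Y ⟶ 𝔸(P; X) := AffineSpace.homOfVector π fun _ => s
  haveI : UniversallyClosed (h₀ ≫ p) := by rw [AffineSpace.homOfVector_over]; infer_instance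
  haveI : UniversallyClosed h₀ := UniversallyClosed.of_comp_of_isSeparated h₀ p
  haveI : UniversallyClosed (h₀.toImage ≫ h₀.imageι) := by rw [Scheme.Hom.toImage_imageι]; infer_instance
  haveI : UniversallyClosed h₀.toImage := UniversallyClosed.of_comp_of_isSeparated _ h₀.imageι
  haveI : Surjective h₀.toImage := ⟨by
    rw [← Set.range_eq_univ, ← (h₀.toImage.isClosedMap.isClosed_range).closure_eq]
    exact h₀.toImage.denseRange.closure_eq⟩
  let π' : h₀.image ⟶ X := h₀.imageι ≫ p
  have e : h₀.toImage ≫ π' = π := by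
    rw [Scheme.Hom.toImage_imageι_assoc, AffineSpace.homOfVector_over]
  have ec : h₀.appTop crd = s := AffineSpace.homOfVector_appTop_coord _ _ _
  haveI : UniversallyClosed (h₀.toImage ≫ π') := by rw [e]; infer_instance
  haveI : UniversallyClosed π' := .of_comp_surjective h₀.toImage π'
  haveI : Surjective (h₀.toImage ≫ π') := by rw [e]; infer_instance
  haveI : Surjective π' := Surjective.of_comp h₀.toImage π'
  have key : ∀ {Q : Scheme.{u}} (a : Q ⟶ h₀.image) (b : Q ⟶ Y), a = b ≫ h₀.toImage →
      (a ≫ h₀.imageι).appTop crd = b.appTop s := by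
    rintro Q a b rfl
    rw [Category.assoc, Scheme.Hom.toImage_imageι, Scheme.Hom.comp_appTop, ConcreteCategory.comp_apply, ec]
  have inj : ∀ (K : Type u) [Field K] (a b : Spec (.of K) ⟶ h₀.image), a ≫ π' = b ≫ π' → a = b := by
    intro K _ a b hab
    haveI : Surjective (pullback.fst a h₀.toImage) := MorphismProperty.pullback_fst _ _ inferInstance
    haveI : Surjective (pullback.fst b h₀.toImage) := MorphismProperty.pullback_fst _ _ inferInstance
    let u₁ := pullback.fst a h₀.toImage
    let u₂ := pullback.fst b h₀.toImage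
    haveI : Surjective (pullback.fst u₁ u₂) := MorphismProperty.pullback_fst _ _ inferInstance
    let m := pullback.fst u₁ u₂ ≫ u₁
    haveI : Surjective m := inferInstanceAs (Surjective (pullback.fst u₁ u₂ ≫ u₁))
    obtain ⟨z, -⟩ := m.surjective (IsLocalRing.closedPoint K)
    let q := (pullback u₁ u₂).fromSpecResidueField z
    haveI : Surjective (q ≫ m) := ⟨fun x => ⟨IsLocalRing.closedPoint _, Subsingleton.elim (α := PrimeSpectrum K) _ _⟩⟩
    haveI : QuasiCompact (q ≫ m) := inferInstance
    have h1 := key (q ≫ m ≫ a) (q ≫ pullback.fst u₁ u₂ ≫ pullback.snd a h₀.toImage) (by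
      simp only [m, u₁, Category.assoc]; rw [pullback.condition])
    have h2 := key (q ≫ m ≫ b) (q ≫ pullback.snd u₁ u₂ ≫ pullback.snd b h₀.toImage) (by
      simp only [m, Category.assoc]; rw [pullback.condition_assoc]; simp only [u₂]; rw [pullback.condition])
    have hyy := point_value_eq hs (q ≫ pullback.fst u₁ u₂ ≫ pullback.snd a h₀.toImage)
      (q ≫ pullback.snd u₁ u₂ ≫ pullback.snd b h₀.toImage) (by
        simp only [Category.assoc]
        rw [← e, ← pullback.condition_assoc, ← pullback.condition_assoc, hab]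
        show q ≫ pullback.fst u₁ u₂ ≫ u₁ ≫ b ≫ π' = q ≫ pullback.snd u₁ u₂ ≫ u₂ ≫ b ≫ π'
        rw [pullback.condition_assoc])
    rw [← cancel_mono h₀.imageι]
    refine AffineSpace.hom_ext (by simpa only [Category.assoc] using hab) fun i => ?_
    apply appTop_injective_of_surjective (q ≫ m)
    show (q ≫ m).appTop ((a ≫ h₀.imageι).appTop crd) = (q ≫ m).appTop ((b ≫ h₀.imageι).appTop crd)
    rw [← ConcreteCategory.comp_apply, ← ConcreteCategory.comp_apply, ← Scheme.Hom.comp_appTop,
      ← Scheme.Hom.comp_appTop]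
    simp only [Category.assoc] at h1 h2 ⊢
    rw [h1, h2, hyy]
  haveI : UniversallyInjective π' := (ui_iff π').2 fun K _ a b hab => inj K a b hab
  have hG : GoodHom True π' := by
    refine ⟨UH.isUnivHomeo_of π', fun _ => residueFieldsIso_of_points inj fun K _ a => ?_⟩
    obtain ⟨L, _, m, b, c, hb, hc⟩ := exists_field_value hs K a
    let q : Spec (.of K) ⟶ 𝔸(P; X) := AffineSpace.homOfVector a fun _ => c
    have hq : (b ≫ h₀.toImage) ≫ h₀.imageι = m ≫ q := by
      rw [Category.assoc, Scheme.Hom.toImage_imageι, AffineSpace.comp_homOfVector, AffineSpace.comp_homOfVector, hb]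
      congr 1
      funext i
      exact hc.symm
    let u := pullback.fst q h₀.imageι
    haveI : Surjective u := ⟨fun x => by
      refine ⟨pullback.lift m (b ≫ h₀.toImage) hq.symm (IsLocalRing.closedPoint L), ?_⟩
      exact Subsingleton.elim (α := PrimeSpectrum K) _ _⟩
    haveI : IsIso u := isIso_of_isClosedImmersion_of_surjective _
    refine ⟨inv u ≫ pullback.snd q h₀.imageι, ?_⟩
    rw [Category.assoc, ← pullback.condition_assoc, IsIso.inv_hom_id_assoc, AffineSpace.homOfVector_over]
  obtain ⟨σ, hσ, -⟩ := isFinal_of_normal (𝟙 X) hX hG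
  have hh : π ≫ σ = h₀.toImage := hom_ext_of_good hG _ _ (by rw [Category.assoc, hσ, Category.comp_id, e])
  refine ⟨(σ ≫ h₀.imageι).appTop crd, ?_, fun t ht => ?_⟩
  · show π.appTop _ = s
    rw [← ConcreteCategory.comp_apply, ← Scheme.Hom.comp_appTop, reassoc_of% hh, Scheme.Hom.toImage_imageι, ec]
  · apply appTop_injective_of_surjective π
    rw [ht, ← ConcreteCategory.comp_apply, ← Scheme.Hom.comp_appTop, reassoc_of% hh, Scheme.Hom.toImage_imageι, ec]

end Groth.Agent.SN26
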