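import Groth.Agent.Lib.Seminormal26.Scheme
import Groth.Agent.Lib.UnivHomeoRing26.AWN
import Mathlib.AlgebraicGeometry.Sites.SmallAffineZariski
import Mathlib.RingTheory.Localization.BaseChange

/-! # Existence of seminormalization and absolute weak normalization -/

universe u

open CategoryTheory CategoryTheory.Limits AlgebraicGeometry Groth.Agent.UnivHomeoRing26
open scoped TensorProduct

namespace Groth.Agent.SN26

section Ring

variable {r : Prop} {A : Type u} [CommRing A]

/-- Elements of the product of geometric points that come from some good map. -/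
def wSet (A : Type u) [CommRing A] (r : Prop) : Set (Pts A) :=
  {x | ∃ (C : Type u) (_ : CommRing C) (ψ : A →+* C) (χ : C →+* Pts A),
    UH.Good r ψ ∧ χ.comp ψ = toPts A ∧ x ∈ Set.range χ}


theorem wSet_pair {x y : Pts A} (hx : x ∈ wSet A r) (hy : y ∈ wSet A r) :
    ∃ (C : Type u) (_ : CommRing C) (ψ : A →+* C) (χ : C →+* Pts A),
      UH.Good r ψ ∧ χ.comp ψ = toPts A ∧ x ∈ Set.range χ ∧ y ∈ Set.range χ := by
  obtain ⟨C, _, ψ, χ, hψ, hχ, a, rfl⟩ := hx
  obtain ⟨D, _, ψ', χ', hψ', hχ', b, rfl⟩ := hy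
  letI := ψ.toAlgebra
  letI := ψ'.toAlgebra
  let χa : C →ₐ[A] Pts A := { χ with commutes' := RingHom.congr_fun hχ }
  let χb : D →ₐ[A] Pts A := { χ' with commutes' := RingHom.congr_fun hχ' }
  let L := Algebra.TensorProduct.lift χa χb fun _ _ => Commute.all _ _
  refine ⟨C ⊗[A] D, inferInstance, algebraMap A _, L.toRingHom, ?_,
    RingHom.ext fun r => L.commutes r, ⟨a ⊗ₜ[A] 1, ?_⟩, ⟨1 ⊗ₜ[A] b, ?_⟩⟩
  · rw [IsScalarTower.algebraMap_eq A C (C ⊗[A] D)]
    exact UH.good_comp hψ (UH.good_tensor (B := C) (C := D) hψ')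
  all_goals simp [L, χa, χb] <;> rfl

theorem mem_wSet {C : Type u} [CommRing C] {ψ : A →+* C} {χ : C →+* Pts A} (hψ : UH.Good r ψ)
    (hχ : χ.comp ψ = toPts A) (c : C) : χ c ∈ wSet A r := ⟨C, inferInstance, ψ, χ, hψ, hχ, c, rfl⟩

variable (r A) in
/-- The largest good extension. -/
noncomputable def W : Subring (Pts A) where
  carrier := wSet A r
  one_mem' := ⟨A, inferInstance, RingHom.id A, toPts A, UH.good_id r, rfl, 1, map_one _⟩
  zero_mem' := ⟨A, inferInstance, RingHom.id A, toPts A, UH.good_id r, rfl, 0, map_zero _⟩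
  add_mem' hx hy := by
    obtain ⟨C, _, ψ, χ, hψ, hχ, ⟨a, rfl⟩, ⟨b, rfl⟩⟩ := wSet_pair hx hy
    rw [← map_add]; exact mem_wSet hψ hχ _
  mul_mem' hx hy := by
    obtain ⟨C, _, ψ, χ, hψ, hχ, ⟨a, rfl⟩, ⟨b, rfl⟩⟩ := wSet_pair hx hy
    rw [← map_mul]; exact mem_wSet hψ hχ _
  neg_mem' hx := by
    obtain ⟨C, _, ψ, χ, hψ, hχ, a, rfl⟩ := hx
    rw [← map_neg]; exact mem_wSet hψ hχ _

variable (r A) in
/-- The map to the largest good extension. -/
noncomputable def toW : A →+* W r A :=
  (toPts A).codRestrict (W r A) fun a => mem_wSet (UH.good_id r) rfl a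

theorem exists_mid (x : W r A) : ∃ (C : Type u) (_ : CommRing C) (ψ : A →+* C) (χ : C →+* W r A) (c : C),
    UH.Good r ψ ∧ χ.comp ψ = toW r A ∧ χ c = x := by
  obtain ⟨x, C, _, ψ, χ, hψ, hχ, c, rfl⟩ := x
  exact ⟨C, inferInstance, ψ, χ.codRestrict _ (mem_wSet hψ hχ), c, hψ,
    RingHom.ext fun a => Subtype.ext (RingHom.congr_fun hχ a), rfl⟩

theorem good_toW : UH.Good r (toW r A) where
  integral x := by
    obtain ⟨C, _, ψ, χ, c, hψ, hχ, rfl⟩ := exists_mid x
    obtain ⟨p, hp, he⟩ := hψ.integral c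
    exact ⟨p, hp, by rw [← hχ, ← Polynomial.hom_eval₂, he, map_zero]⟩
  field K _ g g' e := by
    refine RingHom.ext fun x => ?_
    obtain ⟨C, _, ψ, χ, c, hψ, hχ, rfl⟩ := exists_mid x
    exact RingHom.congr_fun (hψ.field K (g.comp χ) (g'.comp χ)
      (by rw [RingHom.comp_assoc, RingHom.comp_assoc, hχ, e])) c
  over p hp := by
    let h : W r A →+* AlgebraicClosure p.ResidueField :=
      (Pi.evalRingHom _ (⟨p, hp⟩ : PrimeSpectrum A)).comp (W r A).subtype
    refine ⟨RingHom.ker h, RingHom.ker_isPrime h, ?_⟩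
    rw [RingHom.comap_ker, show h.comp (toW r A) = algebraMap A (AlgebraicClosure p.ResidueField) from rfl,
      IsScalarTower.algebraMap_eq A p.ResidueField,
      RingHom.ker_comp_of_injective _ (algebraMap p.ResidueField _).injective,
      Ideal.ker_algebraMap_residueField]
  res hr q hq x := by
    obtain ⟨C, _, ψ, χ, c, hψ, hχ, rfl⟩ := exists_mid x
    obtain ⟨a, s, hs, h⟩ := hψ.res hr (q.comap χ) inferInstance c
    rw [Ideal.mem_comap, map_sub, map_mul] at h
    rw [← hχ]
    exact ⟨a, s, hs, h⟩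

theorem normal_W : Normal r (W r A) := by
  refine normal_of_final (toW r A) good_toW fun C _ ψ hψ => ?_
  obtain ⟨χ, hχ⟩ := exists_toPts hψ.univHomeo
  refine ⟨χ.codRestrict (W r A) (mem_wSet hψ hχ), RingHom.ext fun a => Subtype.ext (RingHom.congr_fun hχ a),
    fun χ' h => RingHom.ext fun c => Subtype.ext ?_⟩
  have := toPts_unique hψ.univHomeo hχ (χ' := (W r A).subtype.comp χ') (RingHom.ext fun a =>
    congrArg Subtype.val (RingHom.congr_fun h a))
  exact (RingHom.congr_fun this c).symm

variable {B : Type u} [CommRing B]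

variable (r) in
/-- Functoriality. -/
noncomputable def Wmap (f : A →+* B) : W r A →+* W r B :=
  (final_of_normal normal_W ((toW r B).comp f) (toW r A) good_toW).choose

theorem Wmap_comp (f : A →+* B) : (Wmap r f).comp (toW r A) = (toW r B).comp f :=
  (final_of_normal normal_W ((toW r B).comp f) (toW r A) good_toW).choose_spec.1

theorem Wmap_unique (f : A →+* B) (χ : W r A →+* W r B) (h : χ.comp (toW r A) = (toW r B).comp f) :
    χ = Wmap r f :=
  (final_of_normal normal_W ((toW r B).comp f) (toW r A) good_toW).choose_spec.2 χ h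

open Algebra.TensorProduct in
attribute [local instance] Algebra.TensorProduct.rightAlgebra in
/-- The largest good extension commutes with localisation. -/
theorem isLocalization_Wmap (M : Submonoid A) [Algebra A B] [IsLocalization M B] :
    letI := (Wmap r (algebraMap A B)).toAlgebra
    IsLocalization (M.map (toW r A)) (W r B) := by
  letI := (Wmap r (algebraMap A B)).toAlgebra
  letI := (toW r A).toAlgebra
  let T := B ⊗[A] W r A
  have hM : IsLocalization (Algebra.algebraMapSubmonoid (W r A) M) T := inferInstance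
  have hT : Normal r T := normal_localization normal_W (Algebra.algebraMapSubmonoid (W r A) M) T
  have hg : UH.Good r (algebraMap B T) := UH.good_tensor (B := B) (C := W r A) good_toW
  haveI := isReduced_of_sn hT.1
  haveI : IsReduced (W r B) := isReduced_of_sn normal_W.1
  obtain ⟨χ, hχ, -⟩ := final_of_normal normal_W (toW r B) (algebraMap B T) hg
  obtain ⟨ξ, hξ, -⟩ := final_of_normal hT (algebraMap B T) (toW r B) good_toW
  have e₁ : χ.comp ξ = RingHom.id _ := eq_of_good good_toW _ _ (by rw [RingHom.comp_assoc, hξ, hχ]; rfl)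
  have e₂ : ξ.comp χ = RingHom.id _ := eq_of_good hg _ _ (by rw [RingHom.comp_assoc, hχ, hξ]; rfl)
  let e : T ≃+* W r B := RingEquiv.ofRingHom χ ξ e₁ e₂
  have hc : χ.comp (algebraMap (W r A) T) = Wmap r (algebraMap A B) := by
    refine Wmap_unique _ _ (RingHom.ext fun a => ?_)
    show χ ((1 : B) ⊗ₜ[A] toW r A a) = toW r B (algebraMap A B a)
    rw [← RingHom.congr_fun hχ (algebraMap A B a)]
    show _ = χ (algebraMap A B a ⊗ₜ[A] (1 : W r A))
    rw [show toW r A a = a • (1 : W r A) by rw [Algebra.smul_def, mul_one]; rfl,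
      Algebra.algebraMap_eq_smul_one, TensorProduct.smul_tmul]
  exact IsLocalization.isLocalization_of_algEquiv (Algebra.algebraMapSubmonoid (W r A) M)
    (S := T) (AlgEquiv.ofRingEquiv (f := e) fun w => RingHom.congr_fun hc w)

end Ring

end Groth.Agent.SN26
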