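import Groth.Agent.Lib.Seminormal26.Scheme
import Mathlib.AlgebraicGeometry.Morphisms.Proper
import Mathlib.AlgebraicGeometry.Morphisms.Finite
import Mathlib.AlgebraicGeometry.Morphisms.FinitePresentation
import Mathlib.AlgebraicGeometry.Noetherian
import Mathlib.RingTheory.RingHom.PurelyInseparable

/-! # Factoring through finite universal homeomorphisms -/

universe u

open CategoryTheory CategoryTheory.Limits AlgebraicGeometry

namespace Groth.Agent.SN26

variable {r : Prop} {S X T T' : Scheme.{u}}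

theorem universallyInjective_of_comp_surjective {Y : Scheme.{u}} (h : T' ⟶ Y) (π : Y ⟶ T) [Surjective h]
    [hc : UniversallyInjective (h ≫ π)] : UniversallyInjective π := by
  have hc' : Function.Injective (h ≫ π) ∧ ∀ x, ((h ≫ π).residueFieldMap x).hom.IsPurelyInseparable :=
    ((tfae_universallyInjective (h ≫ π)).out 0 2).1 hc
  have key : UniversallyInjective π ↔ (Function.Injective π ∧ ∀ y, (π.residueFieldMap y).hom.IsPurelyInseparable) :=
    (tfae_universallyInjective π).out 0 2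
  refine key.2 ⟨fun a b e => ?_, fun y => ?_⟩
  · obtain ⟨a, rfl⟩ := h.surjective a
    obtain ⟨b, rfl⟩ := h.surjective b
    rw [hc'.1 (a₁ := a) (a₂ := b) e]
  · obtain ⟨x, rfl⟩ := h.surjective y
    have hpx := hc'.2 x
    rw [Scheme.residueFieldMap_comp] at hpx
    letI := (π.residueFieldMap (h x)).hom.toAlgebra
    letI := (h.residueFieldMap x).hom.toAlgebra
    letI := ((h.residueFieldMap x).hom.comp (π.residueFieldMap (h x)).hom).toAlgebra
    haveI : IsScalarTower (T.residueField (π (h x))) (Y.residueField (h x)) (T'.residueField x) :=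
      .of_algebraMap_eq' rfl
    haveI : IsPurelyInseparable (T.residueField (π (h x))) (T'.residueField x) := hpx
    exact IsPurelyInseparable.tower_bot (T.residueField (π (h x))) (Y.residueField (h x)) (T'.residueField x)

theorem goodHom_of_comp_surjective {Y : Scheme.{u}} (h : T' ⟶ Y) (π : Y ⟶ T) [Surjective h]
    (hν : GoodHom r (h ≫ π)) : GoodHom r π := by
  haveI := UH.universallyInjective_of_isUnivHomeo hν.1
  haveI := UH.universallyClosed_of_isUnivHomeo hν.1
  haveI : UniversallyClosed π := .of_comp_surjective h π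
  haveI := universallyInjective_of_comp_surjective h π
  haveI := UH.surjective_of_isUnivHomeo hν.1
  haveI : Surjective π := Surjective.of_comp h π
  refine ⟨UH.isUnivHomeo_of π, fun hr y => ?_⟩
  obtain ⟨x, rfl⟩ := h.surjective y
  have := hν.2 hr x
  rw [Scheme.residueFieldMap_comp] at this
  refine (ConcreteCategory.isIso_iff_bijective _).2 ⟨RingHom.injective _, fun w => ?_⟩
  obtain ⟨z, hz⟩ := ((ConcreteCategory.isIso_iff_bijective _).1 this).2 (h.residueFieldMap x w)
  exact ⟨z, (h.residueFieldMap x).hom.injective hz⟩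

theorem isFinite_of_good {Y : Scheme.{u}} {π : Y ⟶ T} (h : GoodHom r π) [LocallyOfFiniteType π] :
    IsFinite π := by
  haveI := h.isAffineHom
  haveI := UH.universallyClosed_of_isUnivHomeo h.1
  haveI : IsIntegralHom π := IsIntegralHom.iff_universallyClosed_and_isAffineHom.2 ⟨inferInstance, inferInstance⟩
  exact (IsFinite.iff_isIntegralHom_and_locallyOfFiniteType π).2 ⟨inferInstance, inferInstance⟩

/-- A morphism on the source of a good morphism is defined on a finite good cover. -/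
theorem exists_finite_factor [X.IsSeparated] (fX : X ⟶ S) [LocallyOfFiniteType fX] (fT : T ⟶ S)
    (ν : T' ⟶ T) (hν : GoodHom r ν) (g : T' ⟶ X) (w : g ≫ fX = ν ≫ fT) :
    ∃ (T₁ : Scheme.{u}) (π : T₁ ⟶ T) (_ : IsFinite π) (_ : GoodHom r π) (g₁ : T₁ ⟶ X) (h : T' ⟶ T₁),
      h ≫ π = ν ∧ g₁ ≫ fX = π ≫ fT ∧ h ≫ g₁ = g := by
  haveI : IsSeparated fX := by
    haveI : IsSeparated (fX ≫ terminal.from S) := by
      rw [Subsingleton.elim (fX ≫ terminal.from S) (terminal.from X)]; exact Scheme.IsSeparated.isSeparated_terminal_from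
    exact IsSeparated.of_comp fX (terminal.from S)
  let h₀ := pullback.lift g ν w
  haveI : UniversallyClosed (h₀ ≫ pullback.snd fX fT) := by
    rw [pullback.lift_snd]; exact UH.universallyClosed_of_isUnivHomeo hν.1
  haveI : UniversallyClosed h₀ := UniversallyClosed.of_comp_of_isSeparated h₀ (pullback.snd fX fT)
  haveI : UniversallyClosed (h₀.toImage ≫ h₀.imageι) := by rw [Scheme.Hom.toImage_imageι]; infer_instance
  haveI : UniversallyClosed h₀.toImage := UniversallyClosed.of_comp_of_isSeparated _ h₀.imageι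
  haveI : Surjective h₀.toImage := ⟨by
    rw [← Set.range_eq_univ, ← (h₀.toImage.isClosedMap.isClosed_range).closure_eq]
    exact h₀.toImage.denseRange.closure_eq⟩
  have e : h₀.toImage ≫ h₀.imageι ≫ pullback.snd fX fT = ν := by
    rw [Scheme.Hom.toImage_imageι_assoc, pullback.lift_snd]
  have hπ : GoodHom r (h₀.imageι ≫ pullback.snd fX fT) :=
    goodHom_of_comp_surjective h₀.toImage _ (by rw [e]; exact hν)
  refine ⟨h₀.image, h₀.imageι ≫ pullback.snd fX fT, isFinite_of_good hπ, hπ,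
    h₀.imageι ≫ pullback.fst fX fT, h₀.toImage, e, ?_, ?_⟩
  · rw [Category.assoc, pullback.condition, Category.assoc]
  · rw [Scheme.Hom.toImage_imageι_assoc, pullback.lift_fst]

/-- Two finite models of the same morphism agree on a third. -/
theorem exists_common_refinement [X.IsSeparated] {T₁ T₂ : Scheme.{u}} (π₁ : T₁ ⟶ T) (π₂ : T₂ ⟶ T)
    [IsFinite π₁] [IsFinite π₂] (h₁' : GoodHom r π₁) (h₂' : GoodHom r π₂) (ν : T' ⟶ T) (hν : GoodHom r ν)
    (g₁ : T₁ ⟶ X) (g₂ : T₂ ⟶ X) (h₁ : T' ⟶ T₁) (h₂ : T' ⟶ T₂) (e₁ : h₁ ≫ π₁ = ν) (e₂ : h₂ ≫ π₂ = ν)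
    (eg : h₁ ≫ g₁ = h₂ ≫ g₂) :
    ∃ (T₃ : Scheme.{u}) (π₃ : T₃ ⟶ T) (_ : IsFinite π₃) (_ : GoodHom r π₃) (a₁ : T₃ ⟶ T₁) (a₂ : T₃ ⟶ T₂),
      a₁ ≫ π₁ = π₃ ∧ a₂ ≫ π₂ = π₃ ∧ a₁ ≫ g₁ = a₂ ≫ g₂ := by
  let p := pullback.fst π₁ π₂ ≫ g₁
  let q := pullback.snd π₁ π₂ ≫ g₂
  have hP : GoodHom r (pullback.snd π₁ π₂ ≫ π₂) :=
    goodHom_comp h₂' (h₁'.baseChange (IsPullback.of_hasPullback π₁ π₂))
  let h := pullback.lift h₁ h₂ (e₁.trans e₂.symm)
  have hh : GoodHom r h := goodHom_top hP (by
    rw [← Category.assoc, pullback.lift_snd, e₂]; exact hν)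
  haveI : IsClosedImmersion (equalizer.ι p q) := inferInstance
  let h' : T' ⟶ equalizer p q := equalizer.lift h (by
    rw [pullback.lift_fst_assoc, pullback.lift_snd_assoc, eg])
  haveI : Surjective (h' ≫ equalizer.ι p q) := by
    rw [equalizer.lift_ι]; exact UH.surjective_of_isUnivHomeo hh.1
  haveI : Surjective (equalizer.ι p q) := Surjective.of_comp h' _
  refine ⟨equalizer p q, equalizer.ι p q ≫ pullback.snd π₁ π₂ ≫ π₂, inferInstance,
    goodHom_comp hP (goodHom_of_closed _), equalizer.ι p q ≫ pullback.fst π₁ π₂,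
    equalizer.ι p q ≫ pullback.snd π₁ π₂, ?_, Category.assoc _ _ _, ?_⟩
  · rw [Category.assoc, pullback.condition]
  · rw [Category.assoc, Category.assoc]; exact equalizer.condition p q

end Groth.Agent.SN26
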