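import Groth.Agent.Lib.Seminormal26.Exists

/-! # Seminormalization and absolute weak normalization of schemes -/

universe u

open CategoryTheory CategoryTheory.Limits AlgebraicGeometry Opposite

namespace Groth.Agent.SN26

variable {r : Prop} {X Y : Scheme.{u}}

theorem goodHom_spec {A B : Type u} [CommRing A] [CommRing B] {φ : A →+* B} (h : UH.Good r φ) :
    GoodHom r (Spec.map (CommRingCat.ofHom φ)) :=
  ⟨h.univHomeo, fun hr y => (ConcreteCategory.isIso_iff_bijective _).2
    ⟨RingHom.injective _, (UH.forall_residueFieldMap_surjective_iff φ).2 (h.res hr) y⟩⟩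

theorem goodHom_of_isIso (f : Y ⟶ X) [IsIso f] : GoodHom r f :=
  (goodHom_id X).baseChange (f' := f) (g' := f) (g := 𝟙 X) (IsPullback.of_vert_isIso ⟨rfl⟩)

/-- Good morphisms are local on the target. -/
theorem goodHom_of_openCover (π : Y ⟶ X) (𝒰 : X.OpenCover) (P : 𝒰.I₀ → Scheme.{u})
    (g : ∀ i, P i ⟶ Y) (f' : ∀ i, P i ⟶ 𝒰.X i) (sq : ∀ i, IsPullback (g i) (f' i) π (𝒰.f i))
    (h : ∀ i, GoodHom r (f' i)) : GoodHom r π := by
  have key : ∀ (Q : MorphismProperty Scheme.{u}) [IsZariskiLocalAtTarget Q],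
      (∀ i, Q (f' i)) → Q π := fun Q _ hQ =>
    (IsZariskiLocalAtTarget.iff_of_openCover (P := Q) 𝒰).2 fun i => by
      show Q (pullback.snd π (𝒰.f i))
      have := hQ i
      rwa [← (sq i).isoPullback_hom_snd, Q.cancel_left_of_respectsIso] at this
  haveI : UniversallyClosed π :=
    key @UniversallyClosed fun i => UH.universallyClosed_of_isUnivHomeo (h i).1
  haveI : UniversallyInjective π :=
    key @UniversallyInjective fun i => UH.universallyInjective_of_isUnivHomeo (h i).1
  haveI : Surjective π := key @Surjective fun i => UH.surjective_of_isUnivHomeo (h i).1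
  refine ⟨UH.isUnivHomeo_of π, fun hr => residueFieldsIso_of_points
    (fun K _ a b e => (ui_iff π).1 inferInstance K e) fun K _ a => ?_⟩
  obtain ⟨i, hi⟩ : ∃ i, a (IsLocalRing.closedPoint K) ∈ (𝒰.f i).opensRange :=
    ⟨_, 𝒰.covers _⟩
  have hr' : Set.range a ⊆ Set.range (𝒰.f i) := by
    rintro _ ⟨x, rfl⟩
    rw [Subsingleton.elim (α := PrimeSpectrum K) x (IsLocalRing.closedPoint K)]
    exact hi
  obtain ⟨b, hb⟩ := (h i).exists_point hr K (IsOpenImmersion.lift (𝒰.f i) a hr')
  exact ⟨b ≫ g i, by rw [Category.assoc, (sq i).w, ← Category.assoc, hb, IsOpenImmersion.lift_fac]⟩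

theorem normalScheme_spec {R : CommRingCat.{u}} (h : Normal r R) : NormalScheme r (Spec R) :=
  normalScheme_of_local fun _ => ⟨⟨⊤, isAffineOpen_top _⟩, trivial,
    normal_equiv (Scheme.ΓSpecIso R).symm.commRingCatIsoToRingEquiv h⟩

theorem normalScheme_of_openCover (𝒰 : X.OpenCover) (h : ∀ i, NormalScheme r (𝒰.X i)) : NormalScheme r X := by
  refine normalScheme_of_local fun x => ?_
  obtain ⟨i, y, rfl⟩ : ∃ i, ∃ y, 𝒰.f i y = x := ⟨_, 𝒰.covers x⟩
  obtain ⟨U, hy⟩ := exists_mem_affine _ y
  exact ⟨⟨_, U.2.image_of_isOpenImmersion (𝒰.f i)⟩, ⟨y, hy, rfl⟩,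
    normal_equiv ((𝒰.f i).appIso U).symm.commRingCatIsoToRingEquiv (h i U)⟩

variable (r X) in
/-- The algebra of largest good extensions. -/
noncomputable def WF : X.AffineZariskiSiteᵒᵖ ⥤ CommRingCat.{u} where
  obj U := .of (W r Γ(X, U.unop.1))
  map {U V} i := CommRingCat.ofHom
    (Wmap r (X.presheaf.map ((Scheme.AffineZariskiSite.toOpensFunctor X).op.map i)).hom)
  map_id U := by
    ext1
    refine (Wmap_unique _ _ ?_).symm
    rw [show (Scheme.AffineZariskiSite.toOpensFunctor X).op.map (𝟙 U) = 𝟙 _ from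
      (Scheme.AffineZariskiSite.toOpensFunctor X).op.map_id U, X.presheaf.map_id]
    rfl
  map_comp {U V T} i j := by
    ext1
    refine (Wmap_unique _ _ ?_).symm
    show ((Wmap r _).comp (Wmap r _)).comp _ = _
    rw [RingHom.comp_assoc, Wmap_comp, ← RingHom.comp_assoc, Wmap_comp, RingHom.comp_assoc,
      (Scheme.AffineZariskiSite.toOpensFunctor X).op.map_comp i j, X.presheaf.map_comp]
    rfl

variable (r X) in
/-- The structure map of the algebra of largest good extensions. -/
noncomputable def WFmap : (Scheme.AffineZariskiSite.toOpensFunctor X).op ⋙ X.presheaf ⟶ WF r X where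
  app U := CommRingCat.ofHom (toW r Γ(X, U.unop.1))
  naturality {U V} i := CommRingCat.hom_ext (Wmap_comp _).symm

theorem coequifibered_WFmap : (WFmap r X).Coequifibered := by
  refine Scheme.AffineZariskiSite.coequifibered_iff_forall_isLocalizationAway.2 fun U f => ?_
  letI := (X.presheaf.map (homOfLE (X.basicOpen_le f)).op).hom.toAlgebra
  haveI : IsLocalization (Submonoid.powers f) Γ(X, X.basicOpen f) := U.2.isLocalization_basicOpen f
  have := isLocalization_Wmap (r := r) (A := Γ(X, U.1)) (B := Γ(X, X.basicOpen f)) (Submonoid.powers f)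
  rw [Submonoid.map_powers] at this
  exact this

/-- Every scheme has a normal scheme universally homeomorphic over it. -/
theorem exists_normalization (r : Prop) (X : Scheme.{u}) :
    ∃ (X' : Scheme.{u}) (ν : X' ⟶ X), GoodHom r ν ∧ NormalScheme r X' := by
  let d := Scheme.AffineZariskiSite.relativeGluingData (coequifibered_WFmap (r := r) (X := X))
  haveI : (d.functor ⋙ Scheme.forget).IsLocallyDirected :=
    Scheme.Cover.RelativeGluingData.instIsLocallyDirectedI₀CompFunctorForgetOfIsThin ..
  refine ⟨d.glued, d.toBase, goodHom_of_openCover d.toBase (Scheme.AffineZariskiSite.directedCover X) _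
    (fun i => colimit.ι d.functor i) (fun i => d.natTrans.app i)
    (fun i => (d.isPullback_natTrans_ι_toBase i).flip) fun i => ?_,
    normalScheme_of_openCover d.cover fun i => ?_⟩
  · haveI := ((Scheme.AffineZariskiSite.restrictIsoSpec X).app i).symm.isIso_hom
    exact goodHom_comp (goodHom_of_isIso ((Scheme.AffineZariskiSite.restrictIsoSpec X).app i).symm.hom)
      (goodHom_spec good_toW)
  · exact normalScheme_spec normal_W

/-- Initial good morphisms have normal source. -/
theorem normalScheme_of_final {X' : Scheme.{u}} (ν : X' ⟶ X) (hν : GoodHom r ν)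
    (hfin : ∀ (Y : Scheme.{u}) (π : Y ⟶ X), GoodHom r π → ∃! h : X' ⟶ Y, h ≫ π = ν) : NormalScheme r X' := by
  obtain ⟨W, μ, hμ, hW⟩ := exists_normalization r X
  obtain ⟨h, hh, -⟩ := hfin W μ hμ
  obtain ⟨k, hk, -⟩ := isFinal_of_normal μ hW hν
  have e₁ : h ≫ k = 𝟙 X' := (hfin X' ν hν).unique (by rw [Category.assoc, hk, hh]) (Category.id_comp _)
  have e₂ : k ≫ h = 𝟙 W := (isFinal_of_normal μ hW hμ).unique (by rw [Category.assoc, hh, hk]) (Category.id_comp _)
  haveI : IsIso h := ⟨k, e₁, e₂⟩
  exact hW.of_isOpenImmersion h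

theorem normalScheme_of_isAWNormalization {X' : Scheme.{u}} {ν : X' ⟶ X} (h : HTop.IsAWNormalization ν) :
    NormalScheme False X' :=
  normalScheme_of_final ν (goodHom_false_iff.2 h.1) fun Y π hπ => h.2 Y π hπ.1

theorem normalScheme_of_isSeminormalization {X' : Scheme.{u}} {ν : X' ⟶ X} (h : HTop.IsSeminormalization ν) :
    NormalScheme True X' :=
  normalScheme_of_final ν (goodHom_true_iff.2 h.1) fun Y π hπ => h.2 Y π hπ.1 (hπ.2 trivial)

end Groth.Agent.SN26
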