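import Groth.Agent.Lib.Seminormal26.Scheme

/-! # Lifting to universally injective proper schemes -/

universe u

open CategoryTheory CategoryTheory.Limits AlgebraicGeometry

namespace Groth.Agent.SN26

theorem exists_lift_of_normal {T X Y : Scheme.{u}} (hT : NormalScheme True T) (f : X ⟶ Y) [UniversallyClosed f]
    [UniversallyInjective f] (g : T ⟶ Y)
    (hlift : ∀ t : T, ∃ l : Spec (T.residueField t) ⟶ X, l ≫ f = T.fromSpecResidueField t ≫ g) :
    ∃ h : T ⟶ X, h ≫ f = g := by
  haveI : UniversallyInjective (pullback.snd f g) := MorphismProperty.pullback_snd f g inferInstance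
  haveI : UniversallyClosed (pullback.snd f g) := MorphismProperty.pullback_snd f g inferInstance
  haveI : Surjective (pullback.snd f g) := ⟨fun t => by
    obtain ⟨l, hl⟩ := hlift t
    refine ⟨pullback.lift l (T.fromSpecResidueField t) hl (IsLocalRing.closedPoint _), ?_⟩
    rw [← Scheme.Hom.comp_apply, pullback.lift_snd, Scheme.fromSpecResidueField_apply]⟩
  have hG : GoodHom True (pullback.snd f g) := by
    refine ⟨UH.isUnivHomeo_of _, fun _ => residueFieldsIso_of_points
      (fun K _ a b e => (ui_iff _).1 inferInstance K e) fun K _ a => ?_⟩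
    obtain ⟨⟨t, ψ⟩, rfl⟩ := (T.SpecToEquivOfField K).symm.surjective a
    obtain ⟨l, hl⟩ := hlift t
    exact ⟨Spec.map ψ ≫ pullback.lift l (T.fromSpecResidueField t) hl, by
      rw [Category.assoc, pullback.lift_snd]; rfl⟩
  obtain ⟨s, hs, -⟩ := isFinal_of_normal (𝟙 T) hT hG
  exact ⟨s ≫ pullback.fst f g, by rw [Category.assoc, pullback.condition, ← Category.assoc, hs, Category.id_comp]⟩

end Groth.Agent.SN26
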