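import Groth.Agent.Lib.Seminormal26.Glue
import Groth.Prelude.Def_Pi1
import Mathlib.AlgebraicGeometry.Morphisms.SchemeTheoreticallyDominant
import Mathlib.AlgebraicGeometry.Morphisms.Finite
import Mathlib.AlgebraicGeometry.Noetherian

/-! # Normal schemes are seminormal -/

universe u

open CategoryTheory CategoryTheory.Limits AlgebraicGeometry

namespace Groth.Agent.SN26

theorem sn_of_forall_prime {A : Type u} [CommRing A]
    (h : ∀ p : PrimeSpectrum A, HTop.IsSeminormalRing (Localization.AtPrime p.asIdeal)) :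
    HTop.IsSeminormalRing A := by
  haveI : IsReduced A := isReduced_ofLocalizationMaximal A fun J hJ =>
    isReduced_of_sn (h ⟨J, hJ.isPrime⟩)
  intro x y hxy
  have loc : ∀ p : PrimeSpectrum A, ∃ c u : A, u ∉ p.asIdeal ∧ u ^ 2 * x = c ^ 2 ∧ u ^ 3 * y = c ^ 3 := by
    intro p
    let L := Localization.AtPrime p.asIdeal
    obtain ⟨a, ⟨h2, h3⟩, -⟩ := h p (algebraMap A L x) (algebraMap A L y) (by rw [← map_pow, ← map_pow, hxy])
    obtain ⟨⟨c, s⟩, rfl⟩ := IsLocalization.mk'_surjective p.asIdeal.primeCompl a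
    simp only [← IsLocalization.mk'_pow] at h2 h3
    rw [IsLocalization.eq_mk'_iff_mul_eq, ← map_mul, IsLocalization.eq_iff_exists p.asIdeal.primeCompl] at h2 h3
    obtain ⟨⟨t, ht⟩, e2⟩ := h2
    obtain ⟨⟨v, hv⟩, e3⟩ := h3
    simp only [SubmonoidClass.coe_pow] at e2 e3
    refine ⟨t * v * c, t * v * s.1, p.asIdeal.primeCompl.mul_mem (p.asIdeal.primeCompl.mul_mem ht hv) s.2, ?_, ?_⟩
    · linear_combination t * v ^ 2 * e2
    · linear_combination t ^ 3 * v ^ 2 * e3
  choose c u hu h2 h3 using loc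
  classical
  have htop : Ideal.span (Set.range u) = ⊤ := by
    by_contra hne
    obtain ⟨m, hm, hle⟩ := Ideal.exists_le_maximal _ hne
    exact hu ⟨m, hm.isPrime⟩ (hle (Ideal.subset_span ⟨_, rfl⟩))
  obtain ⟨s, hs, hs1⟩ := Submodule.mem_span_finite_of_mem_span ((Ideal.eq_top_iff_one _).1 htop)
  obtain ⟨a, ha⟩ := exists_glue s ((Ideal.eq_top_iff_one _).2 hs1) (fun f g _ _ =>
      isReduced_localizationPreserves (Submonoid.powers (f * g)) _ inferInstance) 2 3 1 x y
    (fun R _ _ a b e2 e3 => ext_sq_cube e2 (by simpa using e3)) fun f hf => by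
      obtain ⟨p, rfl⟩ := hs hf
      refine ⟨IsLocalization.Away.invSelf (u p) * algebraMap A _ (c p), ?_, ?_⟩
      · rw [mul_pow, ← map_pow, ← h2, map_mul, map_pow, ← mul_assoc, ← mul_pow, mul_comm _ (algebraMap A _ (u p)),
          IsLocalization.Away.mul_invSelf, one_pow, one_mul]
      · rw [mul_pow, ← map_pow, ← h3, map_mul, map_pow, ← mul_assoc (IsLocalization.Away.invSelf (u p) ^ 3),
          ← mul_pow, mul_comm _ (algebraMap A _ (u p)), IsLocalization.Away.mul_invSelf, one_pow, one_mul,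
          Nat.cast_one, one_mul]
  rw [Nat.cast_one, one_mul] at ha
  exact ⟨a, ha, fun b hb => ext_sq_cube (hb.1.symm.trans ha.1) (hb.2.symm.trans ha.2)⟩

theorem sn_of_isNormalScheme {X : Scheme.{u}} (hX : Pi1.IsNormalScheme X) : NormalScheme True X := by
  intro U
  refine normal_true_iff.2 (sn_of_forall_prime fun p => ?_)
  have hU : IsAffineOpen (U : X.Opens) := U.2
  have hx : hU.fromSpec p ∈ (U : X.Opens) := by
    rw [← SetLike.mem_coe, ← hU.range_fromSpec]; exact ⟨p, rfl⟩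
  letI alg : Algebra Γ(X, U) (X.presheaf.stalk (hU.fromSpec p)) :=
    (X.presheaf.germ (U : X.Opens) (hU.fromSpec p) hx).hom.toAlgebra
  haveI : IsLocalization p.asIdeal.primeCompl (X.presheaf.stalk (hU.fromSpec p)) :=
    hU.isLocalization_stalk' p hx
  let e := (IsLocalization.algEquiv p.asIdeal.primeCompl (X.presheaf.stalk (hU.fromSpec p))
    (Localization.AtPrime p.asIdeal)).toRingEquiv
  haveI := (hX (hU.fromSpec p)).1
  haveI := (hX (hU.fromSpec p)).2
  exact normal_true_iff.1 (normal_equiv e (normal_true_iff.2 sn_of_closed))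

/-- A finite morphism factoring schematically dominantly. -/
theorem isFinite_of_factor {Y X S : Scheme.{u}} [IsLocallyNoetherian S] (g : Y ⟶ X) (ν : X ⟶ S)
    [IsFinite (g ≫ ν)] [IsAffineHom ν] [IsSchemeTheoreticallyDominant g] [QuasiCompact g] : IsFinite ν := by
  refine (isFinite_iff ν).2 ⟨inferInstance, fun U hU => ?_⟩
  have hfin := IsFinite.finite_app (g ≫ ν) U hU
  rw [Scheme.Hom.comp_app] at hfin
  have hinj := g.app_injective (ν ⁻¹ᵁ U)
  letI := (ν.app U).hom.toAlgebra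
  letI := ((g.app (ν ⁻¹ᵁ U)).hom.comp (ν.app U).hom).toAlgebra
  haveI : IsNoetherianRing Γ(S, U) := IsLocallyNoetherian.component_noetherian ⟨U, hU⟩
  haveI : Module.Finite Γ(S, U) Γ(Y, g ⁻¹ᵁ ν ⁻¹ᵁ U) := hfin
  let l : Γ(X, ν ⁻¹ᵁ U) →ₐ[Γ(S, U)] Γ(Y, g ⁻¹ᵁ ν ⁻¹ᵁ U) :=
    { (g.app (ν ⁻¹ᵁ U)).hom with commutes' := fun _ => rfl }
  exact Module.Finite.of_injective l.toLinearMap hinj

end Groth.Agent.SN26
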