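import Groth.Agent.Lib.Seminormal26.Ring
import Mathlib.FieldTheory.PerfectClosure
import Mathlib.RingTheory.Ideal.GoingUp

/-! # Complements on seminormal rings -/

universe u

open CategoryTheory AlgebraicGeometry

namespace Groth.Agent.SN26

variable {A B W : Type u} [CommRing A] [CommRing B] [CommRing W]

theorem normal_equiv {r : Prop} (e : A ≃+* B) (hA : Normal r A) : Normal r B := by
  haveI := isReduced_of_sn hA.1
  haveI : IsReduced B := isReduced_of_injective e.symm.toRingHom e.symm.injective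
  refine normal_of_bijective fun C _ _ φ hφ => ?_
  have h := bijective_of_good hA (UH.good_comp (UH.good_equiv r e) hφ)
  have h' := h.comp e.symm.bijective
  rwa [show (⇑(φ.comp e.toRingHom) ∘ ⇑e.symm) = ⇑φ from funext fun x => congrArg φ (e.apply_symm_apply x)] at h'

theorem good_top {r : Prop} {φ : A →+* B} {χ : B →+* W} (h1 : UH.Good r φ) (h2 : UH.Good r (χ.comp φ)) :
    UH.Good r χ where
  integral := RingHom.IsIntegral.tower_top φ χ h2.integral
  field K _ g g' h := h2.field K g g' (by rw [← RingHom.comp_assoc, ← RingHom.comp_assoc, h])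
  over q hq := by
    haveI := hq
    obtain ⟨q', hq', e⟩ := h2.over (q.comap φ) inferInstance
    haveI := hq'
    refine ⟨q', hq', h1.inj2 _ _ inferInstance hq ?_⟩
    rw [Ideal.comap_comap, e]
  res hr q hq w := by
    obtain ⟨a, s, hs, h⟩ := h2.res hr q hq w
    exact ⟨φ a, φ s, hs, h⟩

/-- Radicial maps in characteristic `p` are universal homeomorphisms. -/
theorem good_of_pow (p : ℕ) (hp : p.Prime) (hp0 : (p : A) = 0) (φ : A →+* B)
    (hker : ∀ a, φ a = 0 → IsNilpotent a) (hpow : ∀ b, ∃ n a, b ^ p ^ n = φ a) : UH.Good False φ := by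
  have hint : φ.IsIntegral := fun b => by
    obtain ⟨n, a, e⟩ := hpow b
    refine ⟨Polynomial.X ^ p ^ n - Polynomial.C a, Polynomial.monic_X_pow_sub_C _ (pow_pos hp.pos n).ne', ?_⟩
    simp [e]
  refine ⟨hint, fun K _ g g' h => RingHom.ext fun b => ?_, fun P hP => ?_, False.elim⟩
  · haveI : CharP K p := ringChar.of_eq (CharP.ringChar_of_prime_eq_zero hp (by
      rw [← map_natCast (g.comp φ), hp0, map_zero]))
    haveI : ExpChar K p := ExpChar.prime hp
    obtain ⟨n, a, e⟩ := hpow b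
    refine iterateFrobenius_inj K p n ?_
    simp only [iterateFrobenius_def, ← map_pow, e]
    exact RingHom.congr_fun h a
  · letI := φ.toAlgebra
    haveI : Algebra.IsIntegral A B := ⟨hint⟩
    haveI := hP
    obtain ⟨Q, -, hQ, e⟩ := Ideal.exists_ideal_over_prime_of_isIntegral P (⊥ : Ideal B) (fun a ha => by
      obtain ⟨n, hn⟩ := hker a ha
      exact hP.mem_of_pow_mem n (hn ▸ zero_mem _))
    exact ⟨Q, hQ, e⟩

theorem isAWNRing_iff_perfect (p : ℕ) [hp : Fact p.Prime] (hp0 : (p : A) = 0) :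
    HTop.IsAWNRing A ↔ PerfectRing A p := by
  constructor
  · intro h
    refine ⟨⟨fun a b e => ?_, fun x => ?_⟩⟩
    · obtain ⟨c, -, hu⟩ := h.2 p hp.out (a ^ p) 0 (by rw [hp0, zero_pow hp.out.ne_zero, zero_mul])
      exact (hu a ⟨rfl, by rw [hp0, zero_mul]⟩).trans (hu b ⟨e, by rw [hp0, zero_mul]⟩).symm
    · obtain ⟨c, hc, -⟩ := h.2 p hp.out x 0 (by rw [hp0, zero_pow hp.out.ne_zero, zero_mul])
      exact ⟨c, hc.1.symm⟩
  · intro h
    rcases subsingleton_or_nontrivial A with hs | hn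
    · exact ⟨fun x y _ => ⟨0, ⟨Subsingleton.elim _ _, Subsingleton.elim _ _⟩, fun b _ => Subsingleton.elim _ _⟩,
        fun q _ x y _ => ⟨0, ⟨Subsingleton.elim _ _, Subsingleton.elim _ _⟩, fun b _ => Subsingleton.elim _ _⟩⟩
    have hi := h.bijective_frobenius.1
    haveI : IsReduced A := (isReduced_iff_pow_one_lt p hp.out.one_lt).2 fun x hx =>
      hi (show x ^ p = 0 ^ p by rw [hx, zero_pow hp.out.ne_zero])
    have sn : HTop.IsSeminormalRing A := by
      intro x y hxy
      obtain ⟨i, j, hij⟩ : ∃ i j, 2 * i + 3 * j = p := by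
        have := hp.out.two_le
        rcases Nat.even_or_odd p with ⟨k, hk⟩ | ⟨k, hk⟩
        · exact ⟨k, 0, by omega⟩
        · exact ⟨k - 1, 1, by omega⟩
      obtain ⟨a, ha⟩ := h.bijective_frobenius.2 (x ^ i * y ^ j)
      have ha' : a ^ p = x ^ i * y ^ j := ha
      have e2 : x = a ^ 2 := hi (by
        show x ^ p = (a ^ 2) ^ p
        calc x ^ p = (x ^ i) ^ 2 * (x ^ 3) ^ j := by rw [← hij]; ring
          _ = (x ^ i * y ^ j) ^ 2 := by rw [hxy]; ring
          _ = (a ^ 2) ^ p := by rw [← ha']; ring)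
      have e3 : y = a ^ 3 := hi (by
        show y ^ p = (a ^ 3) ^ p
        calc y ^ p = (y ^ 2) ^ i * (y ^ j) ^ 3 := by rw [← hij]; ring
          _ = (x ^ i * y ^ j) ^ 3 := by rw [← hxy]; ring
          _ = (a ^ 3) ^ p := by rw [← ha']; ring)
      exact ⟨a, ⟨e2, e3⟩, fun b hb => ext_sq_cube (hb.1.symm.trans e2) (hb.2.symm.trans e3)⟩
    refine ⟨sn, fun q hq x y hxy => ?_⟩
    by_cases hqp : q = p
    · subst hqp
      obtain ⟨a, ha⟩ := h.bijective_frobenius.2 x
      have hy : y = 0 := eq_zero_of_pow_eq_zero (by rw [← hxy, hp0, zero_pow hp.out.ne_zero, zero_mul] : y ^ q = 0)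
      exact ⟨a, ⟨ha.symm, by rw [hy, hp0, zero_mul]⟩, fun b hb => hi (show b ^ q = a ^ q from hb.1.symm.trans ha.symm)⟩
    · have hu : IsUnit (q : A) := by
        haveI : CharP A p := ringChar.of_eq (CharP.ringChar_of_prime_eq_zero hp.out hp0)
        have hu := (ZMod.unitOfCoprime q ((Nat.coprime_primes hq hp.out).2 hqp)).isUnit.map (ZMod.castHom dvd_rfl A)
        simpa using hu
      obtain ⟨a, ha⟩ := hu.dvd (a := y)
      refine ⟨a, ⟨(hu.pow q).mul_left_cancel (by rw [hxy, ha, mul_pow]), ha⟩, fun b hb => ?_⟩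
      exact hu.mul_left_cancel (hb.2.symm.trans ha)

theorem isRingAWN_perfectClosure (p : ℕ) [hp : Fact p.Prime] [CharP A p] :
    HTop.IsRingAWN (PerfectClosure.of A p) := by
  refine isRingAWN_iff.2 ⟨good_of_pow p hp.out (CharP.cast_eq_zero A p) _ (fun a ha => ?_) (fun b => ?_),
    normal_false_iff.2 ((isAWNRing_iff_perfect p (CharP.cast_eq_zero _ p)).2 inferInstance)⟩
  · rw [PerfectClosure.of_apply, PerfectClosure.zero_def, PerfectClosure.mk_eq_iff] at ha
    obtain ⟨z, hz⟩ := ha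
    simp only [zero_add, ← coe_iterateFrobenius, map_zero, iterateFrobenius_def] at hz
    exact ⟨_, hz⟩
  · obtain ⟨⟨n, x⟩, rfl⟩ := PerfectClosure.mk_surjective A p b
    refine ⟨n, x, ?_⟩
    rw [PerfectClosure.mk_pow, PerfectClosure.of_apply, PerfectClosure.mk_eq_iff]
    refine ⟨0, ?_⟩
    simp only [← coe_iterateFrobenius, iterateFrobenius_def, zero_add, add_zero, pow_zero, pow_one]

end Groth.Agent.SN26
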