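import Groth.Agent.Lib.Seminormal26.Ring2
import Mathlib.RingTheory.DiscreteValuationRing.TFAE
import Groth.Prelude.Def_W4c1hilbchowincPtFun
import Mathlib.AlgebraicGeometry.Properties

/-! # Seminormality from pointwise functions -/

universe u

open CategoryTheory AlgebraicGeometry W4c1hilbchowinc

namespace Groth.Agent.SN26

theorem eq_of_values {X : Scheme.{u}} [AlgebraicGeometry.IsReduced X] {a b : Γ(X, ⊤)}
    (h : ∀ x, X.Γevaluation x a = X.Γevaluation x b) : a = b := by
  refine sub_eq_zero.1 ((basicOpen_eq_bot_iff _).1 ?_)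
  refine (Scheme.basicOpen_eq_bot_iff_forall_evaluation_eq_zero _ _).2 fun x => ?_
  show X.Γevaluation x.1 (a - b) = 0
  rw [map_sub, h x.1, sub_self]

theorem sn_of_ptFun (A : Type u) [CommRing A] [IsReduced A]
    (h : ∀ f : PtFun (Spec (CommRingCat.of A)), f.VariesAlongDVR →
      ∃ a : Γ(Spec (CommRingCat.of A), ⊤), PtFun.ofSection (Spec (CommRingCat.of A)) a = f) :
    HTop.IsSeminormalRing A := by
  let X := Spec (CommRingCat.of A)
  let e := (Scheme.ΓSpecIso (CommRingCat.of A)).symm.commRingCatIsoToRingEquiv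
  haveI : _root_.IsReduced (CommRingCat.of A) := ‹_root_.IsReduced A›
  intro x y hxy
  classical
  let ev := fun z : X => X.Γevaluation z (e x)
  let ev' := fun z : X => X.Γevaluation z (e y)
  have hcu : ∀ z, ev z ^ 3 = ev' z ^ 2 := fun z => by simp only [ev, ev', ← map_pow, hxy]
  let f : PtFun X := fun z => if ev z = 0 then 0 else ev' z / ev z
  have hf : ∀ z, f z ^ 2 = ev z ∧ f z ^ 3 = ev' z := by
    intro z
    by_cases h0 : ev z = 0
    · have hy0 : ev' z = 0 := by
        have := hcu z
        rw [h0, zero_pow three_ne_zero] at this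
        exact eq_zero_of_pow_eq_zero this.symm
      simp [f, h0, hy0]
    · simp only [f, if_neg h0, div_pow]
      constructor
      · rw [div_eq_iff (pow_ne_zero 2 h0)]; linear_combination -hcu z
      · rw [div_eq_iff (pow_ne_zero 3 h0)]; linear_combination -(ev' z) * hcu z
  obtain ⟨a, ha⟩ := h f fun R _ _ _ g => by
    have hR : Normal True Γ(Spec (CommRingCat.of R), ⊤) :=
      normal_equiv (Scheme.ΓSpecIso (CommRingCat.of R)).symm.commRingCatIsoToRingEquiv (normal_true_iff.2 (sn_of_closed (A := R)))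
    obtain ⟨r, ⟨h2, h3⟩, -⟩ := (normal_true_iff.1 hR) (g.appTop (e x)) (g.appTop (e y))
      (by rw [← map_pow, ← map_pow, ← map_pow, ← map_pow, hxy])
    refine ⟨r, funext fun z => ?_⟩
    refine ext_sq_cube ?_ ?_
    · show ((Spec (CommRingCat.of R)).Γevaluation z r) ^ 2 = (g.residueFieldMap z (f (g z))) ^ 2
      rw [← map_pow, ← map_pow, (hf (g z)).1, ← h2]
      exact (Scheme.Γevaluation_naturality_apply g z _).symm
    · show ((Spec (CommRingCat.of R)).Γevaluation z r) ^ 3 = (g.residueFieldMap z (f (g z))) ^ 3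
      rw [← map_pow, ← map_pow, (hf (g z)).2, ← h3]
      exact (Scheme.Γevaluation_naturality_apply g z _).symm
  have hva : ∀ z, X.Γevaluation z a = f z := fun z => congrFun ha z
  have h2 : a ^ 2 = e x := eq_of_values fun z => by rw [map_pow, hva, (hf z).1]
  have h3 : a ^ 3 = e y := eq_of_values fun z => by rw [map_pow, hva, (hf z).2]
  refine ⟨e.symm a, ⟨?_, ?_⟩, fun b hb => ?_⟩
  · rw [← map_pow, h2, RingEquiv.symm_apply_apply]
  · rw [← map_pow, h3, RingEquiv.symm_apply_apply]
  · refine ext_sq_cube (hb.1.symm.trans ?_) (hb.2.symm.trans ?_)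
    · rw [← map_pow, h2, RingEquiv.symm_apply_apply]
    · rw [← map_pow, h3, RingEquiv.symm_apply_apply]

end Groth.Agent.SN26
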