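import Groth.Agent.Lib.Seminormal26.CompleteDVR
import Groth.Agent.Lib.Seminormal26.Values
import Groth.Agent.Lib.UnivHomeo.Good
import Mathlib.RingTheory.Adjoin.Tower
import Mathlib.RingTheory.Ideal.MinimalPrime.Localization
import Mathlib.RingTheory.Ideal.MinimalPrime.Noetherian

/-! # Pointwise functions varying along complete DVRs on a seminormal ring -/

universe u

open CategoryTheory AlgebraicGeometry W4c1hilbchowinc Groth.Agent.UH IsLocalRing
open scoped nonZeroDivisors

namespace Groth.Agent.SN26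

theorem mem_nzd_of_minimalPrimes {A : Type u} [CommRing A] [_root_.IsReduced A] {d : A}
    (h : ∀ p ∈ minimalPrimes A, d ∉ p) : d ∈ A⁰ := by
  rw [mem_nonZeroDivisors_iff_right]
  intro c hc
  refine IsNilpotent.eq_zero (nilpotent_iff_mem_prime.2 fun P hP => ?_)
  haveI := hP
  obtain ⟨p, hp, hpP⟩ := Ideal.exists_minimalPrimes_le (show (⊥ : Ideal A) ≤ P from bot_le)
  haveI := hp.1.1
  exact hpP ((hp.1.1.mem_or_mem (by rw [hc]; exact p.zero_mem)).resolve_right (h p hp))

theorem isIntegral_of_inv_adjoin {A K : Type u} [CommRing A] [Field K] [Algebra A K] {ξ : K}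
    (h : ξ ∈ Algebra.adjoin A ({ξ⁻¹} : Set K)) : IsIntegral A ξ := by
  by_cases h0 : ξ = 0
  · rw [h0]; exact isIntegral_zero
  obtain ⟨P, hP⟩ := Algebra.adjoin_singleton_eq_range_aeval A ξ⁻¹ ▸ h
  replace hP : Polynomial.aeval ξ⁻¹ P = ξ := hP
  set n := P.natDegree
  refine ⟨Polynomial.X ^ (n + 1) - ∑ i ∈ Finset.range (n + 1), Polynomial.C (P.coeff i) * Polynomial.X ^ (n - i),
    Polynomial.monic_X_pow_sub ((Polynomial.degree_sum_le _ _).trans_lt ((Finset.sup_lt_iff ?_).2 fun i _ =>
      (Polynomial.degree_C_mul_X_pow_le _ _).trans_lt (by exact_mod_cast (Nat.lt_succ_of_le (Nat.sub_le n i))))), ?_⟩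
  · exact WithBot.bot_lt_coe _
  rw [← Polynomial.aeval_def, map_sub, map_sum, map_pow, Polynomial.aeval_X, sub_eq_zero]
  conv_lhs => rw [pow_succ]; arg 2; rw [← hP, Polynomial.aeval_eq_sum_range, Finset.sum_congr rfl fun i _ => Algebra.smul_def (P.coeff i) (ξ⁻¹ ^ i)]
  rw [Finset.mul_sum]
  refine Finset.sum_congr rfl fun i hi => ?_
  rw [map_mul, map_pow, Polynomial.aeval_X, Polynomial.aeval_C, mul_left_comm,
    pow_sub₀ ξ h0 (Nat.lt_succ_iff.1 (Finset.mem_range.1 hi)), inv_pow]

/-- The value at a point of a function varying along complete DVRs is integral over the ring. -/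
theorem isIntegral_value {A : Type u} [CommRing A] [IsNoetherianRing A] {f : PtFun (Spec (CommRingCat.of A))}
    (hf : f.VariesAlongCompleteDVR) (p : Spec (CommRingCat.of A)) :
    ((ev (CommRingCat.of A) p)).IsIntegralElem (f p) := by
  let K := (Spec (CommRingCat.of A)).residueField p
  letI : Algebra A K := (ev (CommRingCat.of A) p).toAlgebra
  show IsIntegral A (f p)
  by_contra hni
  obtain ⟨a, s, hs, heq⟩ := exists_ev (CommRingCat.of A) p (f p)
  have h0 : f p ≠ 0 := fun h => hni (h ▸ isIntegral_zero)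
  let D := Algebra.adjoin A ({(f p)⁻¹} : Set K)
  let u : D := ⟨(f p)⁻¹, Algebra.self_mem_adjoin_singleton A _⟩
  have hu : ¬ IsUnit u := fun hu => by
    obtain ⟨v, hv⟩ := hu.exists_right_inv
    refine hni (isIntegral_of_inv_adjoin ?_)
    have : (f p)⁻¹ * (v : K) = 1 := congrArg Subtype.val hv
    have hfv : f p = (v : K) := ((eq_inv_of_mul_eq_one_right this).trans (inv_inv _)).symm
    have hmem : (v : K) ∈ D := v.2
    rwa [← hfv] at hmem
  obtain ⟨P, hP, huP⟩ := exists_max_ideal_of_mem_nonunits (show u ∈ nonunits D from hu)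
  haveI : Algebra.FiniteType A D := (Subalgebra.fg_iff_finiteType _).1 ⟨{(f p)⁻¹}, by rw [Finset.coe_singleton]⟩
  haveI : IsNoetherianRing D := Algebra.FiniteType.isNoetherianRing A D
  haveI : IsDomain D := inferInstance
  obtain ⟨R, _, _, _, _, θ, hθ, hθm⟩ := exists_complete_dvr_of_domain D P
    (fun h => inv_ne_zero h0 (congrArg Subtype.val (show u = 0 from (Submodule.mem_bot D).1 (h ▸ huP))))
  let g := Spec.map (CommRingCat.ofHom (θ.comp (algebraMap A D)))
  obtain ⟨r, hr⟩ := hf R g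
  let r' : R := (Scheme.ΓSpecIso (CommRingCat.of R)).hom r
  let z₀ : Spec (CommRingCat.of R) := ⟨⊥, Ideal.isPrime_bot⟩
  have hz : g z₀ = p := by
    refine PrimeSpectrum.ext ?_
    show Ideal.comap (θ.comp (algebraMap A D)) ⊥ = p.asIdeal
    rw [← RingHom.ker_eq_comap_bot, RingHom.ker_comp_of_injective _ hθ]
    ext t
    rw [RingHom.mem_ker, ← ev_eq_zero (CommRingCat.of A) p t]
    exact ⟨fun h => congrArg Subtype.val h, fun h => Subtype.ext h⟩
  have gen : ∀ q, q = p → ev (CommRingCat.of A) q s * f q = ev (CommRingCat.of A) q a := by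
    rintro q rfl; exact heq
  have e1 := congrArg (g.residueFieldMap z₀) (gen _ hz)
  have hr₀ : g.residueFieldMap z₀ (f (g z₀)) = ev (CommRingCat.of R) z₀ r' := by
    refine (congrFun hr z₀).symm.trans ?_
    exact congrArg ((Spec (CommRingCat.of R)).Γevaluation z₀)
      ((Scheme.ΓSpecIso (CommRingCat.of R)).hom_inv_id_apply r).symm
  rw [map_mul, residueFieldMap_ev, residueFieldMap_ev, hr₀, ← map_mul, ← sub_eq_zero, ← map_sub, ev_eq_zero] at e1
  have e1' : θ (algebraMap A D s) * r' = θ (algebraMap A D a) := sub_eq_zero.1 e1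
  have e2 : algebraMap A D a * u = algebraMap A D s := Subtype.ext (by
    show ev (CommRingCat.of A) p a * (f p)⁻¹ = ev (CommRingCat.of A) p s
    rw [← heq, mul_assoc, mul_inv_cancel₀ h0, mul_one])
  have e3 : θ (algebraMap A D s) * (r' * θ u - 1) = 0 := by
    rw [mul_sub, ← mul_assoc, e1', ← map_mul θ, e2]; ring
  have e4 : θ (algebraMap A D s) ≠ 0 := fun h => hs ((ev_eq_zero (CommRingCat.of A) p s).1
    (congrArg Subtype.val (show algebraMap A D s = 0 from hθ (h.trans (map_zero θ).symm))))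
  have e5 := sub_eq_zero.1 ((mul_eq_zero.1 e3).resolve_left e4)
  have hum : θ u ∈ maximalIdeal R := by
    have : u ∈ (maximalIdeal R).comap θ := by rw [hθm]; exact huP
    exact this
  exact hum (IsUnit.of_mul_eq_one r' (mul_comm r' _ ▸ e5))

theorem existsUnique_of_variesAlongCompleteDVR (A : Type u) [CommRing A] [IsNoetherianRing A]
    (hA : HTop.IsSeminormalRing A) (f : PtFun (Spec (CommRingCat.of A))) (hf : f.VariesAlongCompleteDVR) :
    ∃! a : Γ(Spec (CommRingCat.of A), ⊤), PtFun.ofSection (Spec (CommRingCat.of A)) a = f := by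
  classical
  haveI := isReduced_of_sn hA
  haveI : _root_.IsReduced (CommRingCat.of A) := ‹_root_.IsReduced A›
  choose a s hs heq using fun p : Spec (CommRingCat.of A) => exists_ev (CommRingCat.of A) p (f p)
  let M : Set (PrimeSpectrum A) := {p | p.asIdeal ∈ minimalPrimes A}
  haveI : Finite M := by
    haveI : Finite (minimalPrimes A) := (minimalPrimes.finite_of_isNoetherianRing A).to_subtype
    exact Finite.of_injective (fun p => (⟨p.1.asIdeal, p.2⟩ : minimalPrimes A))
      fun p q h => Subtype.ext (PrimeSpectrum.ext (congrArg Subtype.val h))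
  haveI := Fintype.ofFinite M
  have hex : ∀ p : M, ∃ e : A, e ∉ p.1.asIdeal ∧ ∀ q : M, q ≠ p → e ∈ q.1.asIdeal := by
    intro p
    have : ∀ q : M, q ≠ p → ∃ t, t ∈ q.1.asIdeal ∧ t ∉ p.1.asIdeal := fun q hq => by
      by_contra hc
      push Not at hc
      exact hq (Subtype.ext (PrimeSpectrum.ext (le_antisymm hc (p.2.2 ⟨q.1.isPrime, bot_le⟩ hc))))
    choose t ht₁ ht₂ using this
    refine ⟨∏ q : M, if h : q = p then 1 else t q h, fun hmem => ?_, fun q hq => ?_⟩
    · obtain ⟨q, -, hq⟩ := (Ideal.IsPrime.prod_mem_iff (hp := p.1.isPrime)).1 hmem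
      split_ifs at hq with h
      · exact p.1.isPrime.ne_top ((Ideal.eq_top_iff_one _).2 hq)
      · exact ht₂ q h hq
    · refine Ideal.mem_of_dvd _ (Finset.dvd_prod_of_mem _ (Finset.mem_univ q)) ?_
      rw [dif_neg hq]; exact ht₁ q hq
  choose e he₁ he₂ using hex
  let d := ∑ p : M, e p * s p.1
  let n := ∑ p : M, e p * a p.1
  have hdn : ∀ p : M, d ∉ p.1.asIdeal ∧ s p.1 * n - a p.1 * d ∈ p.1.asIdeal := by
    intro p
    have hd : d - e p * s p.1 ∈ p.1.asIdeal := by
      rw [show d - e p * s p.1 = ∑ q ∈ Finset.univ.erase p, e q * s q.1 by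
        rw [Finset.sum_erase_eq_sub (Finset.mem_univ p)]]
      exact Ideal.sum_mem _ fun q hq => Ideal.mul_mem_right _ _ (he₂ q p (Finset.ne_of_mem_erase hq).symm)
    have hn : n - e p * a p.1 ∈ p.1.asIdeal := by
      rw [show n - e p * a p.1 = ∑ q ∈ Finset.univ.erase p, e q * a q.1 by
        rw [Finset.sum_erase_eq_sub (Finset.mem_univ p)]]
      exact Ideal.sum_mem _ fun q hq => Ideal.mul_mem_right _ _ (he₂ q p (Finset.ne_of_mem_erase hq).symm)
    refine ⟨fun hmem => ?_, ?_⟩
    · have hes : e p * s p.1 ∈ p.1.asIdeal := by simpa using Ideal.sub_mem _ hmem hd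
      exact (p.1.isPrime.mem_or_mem hes).elim (he₁ p) (hs p.1)
    · rw [show s p.1 * n - a p.1 * d = s p.1 * (n - e p * a p.1) - a p.1 * (d - e p * s p.1) by ring]
      exact sub_mem (Ideal.mul_mem_left _ _ hn) (Ideal.mul_mem_left _ _ hd)
  have hd0 : d ∈ A⁰ := mem_nzd_of_minimalPrimes fun p hp => (hdn ⟨⟨p, hp.1.1⟩, hp⟩).1
  let Q := FractionRing A
  let x : Q := IsLocalization.mk' Q n ⟨d, hd0⟩
  -- monic relations
  let B := Algebra.adjoin A ({x} : Set Q)
  let φ : A →+* B := algebraMap A B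
  let xB : B := ⟨x, Algebra.self_mem_adjoin_singleton A x⟩
  have hdx : φ d * xB = φ n := Subtype.ext (IsLocalization.mk'_spec' Q n ⟨d, hd0⟩)
  have hinj : Function.Injective φ := fun u v h => IsFractionRing.injective A Q (congrArg Subtype.val h)
  haveI : Algebra.FiniteType A B := (Subalgebra.fg_iff_finiteType _).1 ⟨{x}, by rw [Finset.coe_singleton]⟩
  haveI : IsNoetherianRing B := Algebra.FiniteType.isNoetherianRing A B
  let π := Spec.map (CommRingCat.ofHom φ)
  -- the expected value of `x`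
  let Good : Spec (CommRingCat.of B) → Prop := fun y =>
    ev (CommRingCat.of B) y xB = π.residueFieldMap y (f (π y))
  have hmin : ∀ y : Spec (CommRingCat.of B), y.asIdeal ∈ minimalPrimes B → Good y := by
    intro y hy
    have hp : (π y).asIdeal ∈ minimalPrimes A := by
      obtain ⟨Q', hQ', hQe⟩ := Ideal.exists_comap_eq_of_mem_minimalPrimes_of_injective
        (f := B.val.toRingHom) Subtype.val_injective y.asIdeal hy
      have hnzd : ∀ t ∈ (π y).asIdeal, t ∉ A⁰ := fun t ht hn => by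
        have h1 : algebraMap A Q t ∈ Q' := by
          have : φ t ∈ Q'.comap B.val.toRingHom := by rw [hQe]; exact ht
          exact this
        exact hQ'.ne_top (Ideal.eq_top_of_isUnit_mem _ h1 (IsLocalization.map_units Q ⟨t, hn⟩))
      obtain ⟨q, hq, hle⟩ : ∃ q ∈ minimalPrimes A, (π y).asIdeal ≤ q := by
        let F := (minimalPrimes.finite_of_isNoetherianRing A).toFinset
        have hsub : ((π y).asIdeal : Set A) ⊆ ⋃ q ∈ (F : Set (Ideal A)), (q : Set A) := fun t ht => by
          by_contra hc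
          simp only [Set.mem_iUnion, not_exists, F, Set.Finite.coe_toFinset] at hc
          exact hnzd t ht (mem_nzd_of_minimalPrimes fun q hq => hc q hq)
        obtain ⟨q, hq, hle⟩ := (Ideal.subset_union_prime ⊥ ⊥ fun q hq _ _ =>
          ((Set.Finite.mem_toFinset _).1 hq).1.1).1 hsub
        exact ⟨q, (Set.Finite.mem_toFinset _).1 hq, hle⟩
      rw [le_antisymm hle (hq.2 ⟨(π y).isPrime, bot_le⟩ hle)]
      exact hq
    obtain ⟨h1, h2⟩ := hdn ⟨π y, hp⟩
    have hb : φ (s (π y)) * xB - φ (a (π y)) ∈ y.asIdeal := by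
      have h3 : φ d * (φ (s (π y)) * xB - φ (a (π y))) ∈ y.asIdeal := by
        rw [show φ d * (φ (s (π y)) * xB - φ (a (π y))) = φ (s (π y) * n - a (π y) * d) by
          rw [map_sub φ, map_mul φ, map_mul φ]; linear_combination φ (s (π y)) * hdx]
        exact h2
      exact (y.isPrime.mem_or_mem h3).resolve_left h1
    have h4 : ev (CommRingCat.of B) y (φ (s (π y))) * ev (CommRingCat.of B) y xB =
        ev (CommRingCat.of B) y (φ (a (π y))) := by
      rw [← map_mul, ← sub_eq_zero, ← map_sub, ev_eq_zero]; exact hb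
    have h5 := congrArg (π.residueFieldMap y) (heq (π y))
    rw [map_mul, residueFieldMap_ev, residueFieldMap_ev] at h5
    exact mul_left_cancel₀ (fun h0 => hs (π y) ((ev_eq_zero (CommRingCat.of B) y _).1 h0)) (h4.trans h5.symm)
  have hgood : ∀ y, Good y := by
    intro y
    obtain ⟨P₀, hP₀, hle⟩ := Ideal.exists_minimalPrimes_le (show (⊥ : Ideal B) ≤ y.asIdeal from bot_le)
    haveI := hP₀.1.1
    by_cases hne : P₀ = y.asIdeal
    · exact hmin y (hne ▸ hP₀)
    obtain ⟨R, _, _, _, _, θ, hker, hmax⟩ := exists_complete_dvr hle hne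
    let h := Spec.map (CommRingCat.ofHom θ)
    obtain ⟨r, hr⟩ := hf R (h ≫ π)
    have hev : ∀ z, ev (CommRingCat.of R) z ((Scheme.ΓSpecIso (CommRingCat.of R)).hom r) =
        h.residueFieldMap z (π.residueFieldMap (h z) (f (π (h z)))) := fun z => by
      refine Eq.trans ?_ ((congrFun hr z).trans (congr($(Scheme.residueFieldMap_comp h π z) (f (π (h z))))))
      exact congrArg ((Spec (CommRingCat.of R)).Γevaluation z)
        ((Scheme.ΓSpecIso (CommRingCat.of R)).hom_inv_id_apply r)
    let z₀ : Spec (CommRingCat.of R) := ⟨⊥, Ideal.isPrime_bot⟩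
    let z₁ : Spec (CommRingCat.of R) := IsLocalRing.closedPoint R
    have e₀ : h z₀ = ⟨P₀, hP₀.1.1⟩ := PrimeSpectrum.ext ((RingHom.ker_eq_comap_bot θ).symm.trans hker)
    have e₁ : h z₁ = y := PrimeSpectrum.ext hmax
    have g₀ : Good (h z₀) := e₀ ▸ hmin ⟨P₀, hP₀.1.1⟩ hP₀
    have hx : ev (CommRingCat.of R) z₀ ((Scheme.ΓSpecIso (CommRingCat.of R)).hom r) =
        ev (CommRingCat.of R) z₀ (θ xB) :=
      (hev z₀).trans ((congrArg (h.residueFieldMap z₀) g₀.symm).trans (residueFieldMap_ev θ z₀ xB))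
    rw [← sub_eq_zero, ← map_sub, ev_eq_zero] at hx
    have hx' : (Scheme.ΓSpecIso (CommRingCat.of R)).hom r = θ xB := sub_eq_zero.1 hx
    rw [← e₁]
    refine (h.residueFieldMap z₁).hom.injective ((residueFieldMap_ev θ z₁ xB).trans ?_)
    rw [← hx', hev]
  haveI : _root_.IsReduced Q := isReduced_localizationPreserves A⁰ Q inferInstance
  haveI : _root_.IsReduced B := isReduced_of_injective B.val.toRingHom Subtype.val_injective
  have hintx : IsIntegral A xB := by
    have hfin : (minimalPrimes B).Finite := minimalPrimes.finite_of_isNoetherianRing B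
    have : ∀ q ∈ hfin.toFinset, ∃ P : Polynomial A, P.Monic ∧ Polynomial.aeval xB P ∈ q := by
      intro q hq
      have hq' := (Set.Finite.mem_toFinset _).1 hq
      let y : Spec (CommRingCat.of B) := ⟨q, hq'.1.1⟩
      obtain ⟨P, hPm, hP⟩ := isIntegral_value hf (π y)
      refine ⟨P, hPm, (ev_eq_zero (CommRingCat.of B) y _).1 ?_⟩
      have := congrArg (π.residueFieldMap y) hP
      rw [map_zero, Polynomial.hom_eval₂] at this
      rw [Polynomial.aeval_def, Polynomial.hom_eval₂, show ev (CommRingCat.of B) y xB = _ from hmin y hq', ← this]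
      congr 1
      exact RingHom.ext fun t => (residueFieldMap_ev φ y t).symm
    choose! P hPm hP using this
    refine ⟨∏ q ∈ hfin.toFinset, P q, Polynomial.monic_prod_of_monic _ _ hPm, ?_⟩
    refine IsNilpotent.eq_zero (nilpotent_iff_mem_prime.2 fun J hJ => ?_)
    obtain ⟨q, hq, hqJ⟩ := Ideal.exists_minimalPrimes_le (show (⊥ : Ideal B) ≤ J from bot_le)
    refine hqJ ?_
    rw [← Polynomial.aeval_def, map_prod]
    exact Ideal.mem_of_dvd _ (Finset.dvd_prod_of_mem _ ((Set.Finite.mem_toFinset _).2 hq))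
      (hP q ((Set.Finite.mem_toFinset _).2 hq))
  haveI hintA : Algebra.IsIntegral A B := Algebra.IsIntegral.adjoin fun t ht => by
    rw [Set.mem_singleton_iff.1 ht]; exact hintx.map B.val
  have hpoly : ∀ b : B, ∃ P : Polynomial A, Polynomial.aeval xB P = b := by
    intro b
    have hb' : (b : Q) ∈ Algebra.adjoin A ({x} : Set Q) := b.2
    rw [Algebra.adjoin_singleton_eq_range_aeval] at hb'
    obtain ⟨P, hP⟩ := hb'
    exact ⟨P, Subtype.ext ((Polynomial.aeval_algHom_apply B.val xB P).symm.trans hP)⟩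
  have hval : ∀ (P : Polynomial A) (y : Spec (CommRingCat.of B)),
      ev (CommRingCat.of B) y (Polynomial.aeval xB P) =
        π.residueFieldMap y (Polynomial.eval₂ (ev (CommRingCat.of A) (π y)) (f (π y)) P) := by
    intro P y
    rw [Polynomial.aeval_def, Polynomial.hom_eval₂, Polynomial.hom_eval₂]
    congr 1
    · exact RingHom.ext fun t => (residueFieldMap_ev φ y t).symm
    · exact hgood y
  have hres : Res φ := fun q hq b => by
    obtain ⟨P, rfl⟩ := hpoly b
    exact (resAt_iff φ ⟨q, hq⟩ _).2 ⟨_, (hval P ⟨q, hq⟩).symm⟩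
  have hinj2 : Inj2 φ := by
    have key : ∀ y y' : Spec (CommRingCat.of B), π y = π y' → ∀ b : B, b ∈ y.asIdeal → b ∈ y'.asIdeal := by
      intro y y' hyy b hb
      obtain ⟨P, rfl⟩ := hpoly b
      rw [← ev_eq_zero (CommRingCat.of B), hval] at hb ⊢
      rw [map_eq_zero_iff _ (π.residueFieldMap y).hom.injective] at hb
      have gen : ∀ q, q = π y → Polynomial.eval₂ (ev (CommRingCat.of A) q) (f q) P = 0 := by
        rintro q rfl; exact hb
      rw [gen (π y') hyy.symm, map_zero]
    intro q q' hq hq' he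
    have hyy : π (⟨q, hq⟩ : Spec (CommRingCat.of B)) = π (⟨q', hq'⟩ : Spec (CommRingCat.of B)) := PrimeSpectrum.ext he
    exact le_antisymm (key ⟨q, hq⟩ ⟨q', hq'⟩ hyy) (key ⟨q', hq'⟩ ⟨q, hq⟩ hyy.symm)
  have hover : ∀ p : Ideal A, p.IsPrime → ∃ q : Ideal B, q.IsPrime ∧ q.comap φ = p :=
    fun p _ => exists_over_of_injective φ hinj hintA.isIntegral p
  have hG : UH.Good True φ :=
    ⟨hintA.isIntegral, eq_of_inj2_rad φ hinj2 (rad_of_res φ hres), hover, fun _ => hres⟩
  obtain ⟨a₀, ha₀⟩ := (bijective_of_good (normal_true_iff.2 hA) hG).2 xB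
  refine ⟨(Scheme.ΓSpecIso (CommRingCat.of A)).inv a₀, ?_, fun b hb => eq_of_values fun p => ?_⟩
  rotate_left
  · refine (congrFun hb p).trans ?_
    obtain ⟨q, hq, hqe⟩ := hover p.asIdeal p.isPrime
    have hy : π (⟨q, hq⟩ : Spec (CommRingCat.of B)) = p := PrimeSpectrum.ext hqe
    subst hy
    refine (π.residueFieldMap ⟨q, hq⟩).hom.injective ((hgood ⟨q, hq⟩).symm.trans ?_)
    rw [← ha₀]
    exact (residueFieldMap_ev φ ⟨q, hq⟩ a₀).symm
  · funext p
    obtain ⟨q, hq, hqe⟩ := hover p.asIdeal p.isPrime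
    have hy : π (⟨q, hq⟩ : Spec (CommRingCat.of B)) = p := PrimeSpectrum.ext hqe
    subst hy
    refine (π.residueFieldMap ⟨q, hq⟩).hom.injective ?_
    refine Eq.trans ?_ (hgood ⟨q, hq⟩)
    rw [← ha₀]
    exact residueFieldMap_ev φ ⟨q, hq⟩ a₀

end Groth.Agent.SN26
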